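import Mathlib
import Groth.Prelude.Def_BlowUp2

/-!
# Ideal sheaves on Noetherian schemes: ascending chain condition and colon ideal sheaves
-/

set_option autoImplicit false
universe u
open CategoryTheory AlgebraicGeometry TopologicalSpace

namespace Groth.Agent.H5.EffDec

variable {X : Scheme.{u}}

/-- a finite cover by affine opens of a quasi-compact scheme. -/
theorem exists_finset_affineOpens [CompactSpace X] :
    ∃ s : Finset X.affineOpens, ⨆ U : s, (U.1 : X.affineOpens).1 = ⊤ := by
  classical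
  have hcov : (Set.univ : Set X) ⊆ ⋃ U : X.affineOpens, (U.1 : Set X) := by
    intro x _
    obtain ⟨W, hW, hxW, -⟩ := exists_isAffineOpen_mem_and_subset (x := x) (U := ⊤) trivial
    exact Set.mem_iUnion.mpr ⟨⟨W, hW⟩, hxW⟩
  obtain ⟨t, ht⟩ := isCompact_univ.elim_finite_subcover (fun U : X.affineOpens => (U.1 : Set X))
    (fun U => U.1.2) hcov
  refine ⟨t, ?_⟩
  rw [eq_top_iff]
  intro x _
  obtain ⟨U, hU⟩ := Set.mem_iUnion.mp (ht (Set.mem_univ x))
  obtain ⟨hUt, hxU⟩ := Set.mem_iUnion.mp hU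
  exact Opens.mem_iSup.mpr ⟨⟨U, hUt⟩, hxU⟩

/-- **ascending chain condition** for quasi-coherent ideal sheaves on a Noetherian scheme. -/
instance wellFoundedGT_idealSheafData [IsNoetherian X] : WellFoundedGT X.IdealSheafData := by
  classical
  obtain ⟨s, hs⟩ := exists_finset_affineOpens (X := X)
  let f : X.IdealSheafDataᵒᵈ → ∀ U : s, (Ideal Γ(X, (U.1 : X.affineOpens).1))ᵒᵈ :=
    fun I U => OrderDual.toDual ((OrderDual.ofDual I).ideal U.1)
  have hf : StrictMono f := by
    intro I J hIJ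
    refine lt_of_le_of_ne (fun U => ?_) (fun h => ?_)
    · exact (Scheme.IdealSheafData.le_def.mp hIJ.le) U.1
    · apply hIJ.ne
      apply OrderDual.ofDual.injective
      refine Scheme.IdealSheafData.ext_of_iSup_eq_top (fun U : s => U.1) hs (fun U => ?_)
      exact OrderDual.toDual.injective (congrFun h U)
  haveI : ∀ U : s, WellFoundedLT ((Ideal Γ(X, (U.1 : X.affineOpens).1))ᵒᵈ) := fun U => by
    haveI : IsNoetherianRing Γ(X, (U.1 : X.affineOpens).1) :=
      IsLocallyNoetherian.component_noetherian U.1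
    infer_instance
  haveI : WellFoundedLT X.IdealSheafDataᵒᵈ := hf.wellFoundedLT
  exact ⟨(inferInstance : WellFoundedLT X.IdealSheafDataᵒᵈ).wf⟩

/-- colon ideals by a finitely generated ideal commute with localization. -/
theorem map_colon_of_fg {R S : Type*} [CommRing R] [CommRing S] [Algebra R S] (M : Submonoid R)
    [IsLocalization M S] (J D : Ideal R) (hD : D.FG) :
    (J.colon (D : Set R)).map (algebraMap R S) =
      (J.map (algebraMap R S)).colon ((D.map (algebraMap R S) : Ideal S) : Set S) := by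
  classical
  apply le_antisymm
  · rw [Ideal.map_le_iff_le_comap]
    intro x hx
    rw [Ideal.mem_comap, Submodule.mem_colon]
    have hle : D.map (algebraMap R S) ≤
        (J.map (algebraMap R S)).colon ({algebraMap R S x} : Set S) := by
      rw [Ideal.map_le_iff_le_comap]
      intro d hd
      rw [Ideal.mem_comap, Submodule.mem_colon_singleton, smul_eq_mul, ← map_mul, mul_comm]
      exact Ideal.mem_map_of_mem _ (Submodule.mem_colon.mp hx d hd)
    intro s hs
    have := Submodule.mem_colon_singleton.mp (hle hs)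
    rwa [smul_eq_mul, mul_comm] at this
  · intro y hy
    obtain ⟨⟨x, m⟩, rfl⟩ := IsLocalization.mk'_surjective M (S := S) y
    rw [IsLocalization.mk'_mem_map_algebraMap_iff]
    obtain ⟨T, rfl⟩ := hD
    have key : ∀ d ∈ T, ∃ md ∈ M, md * (x * d) ∈ J := by
      intro d hd
      have h1 : IsLocalization.mk' S x m • (algebraMap R S d) ∈ J.map (algebraMap R S) :=
        Submodule.mem_colon.mp hy _ (Ideal.mem_map_of_mem _ (Ideal.subset_span hd))
      have h2 : algebraMap R S (x * d) ∈ J.map (algebraMap R S) := by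
        have : algebraMap R S (x * d) =
            algebraMap R S m * (IsLocalization.mk' S x m • (algebraMap R S d)) := by
          rw [smul_eq_mul, ← mul_assoc, IsLocalization.mk'_spec', map_mul]
        rw [this]
        exact Ideal.mul_mem_left _ _ h1
      exact (IsLocalization.algebraMap_mem_map_algebraMap_iff M S J (x * d)).mp h2
    choose! mm hmM hmJ using key
    refine ⟨∏ d ∈ T, mm d, Submonoid.prod_mem M (fun d hd => hmM d hd), ?_⟩
    rw [Submodule.mem_colon]
    have hle : Ideal.span (T : Set R) ≤ J.colon ({(∏ d ∈ T, mm d) * x} : Set R) := by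
      rw [Ideal.span_le]
      intro d hd
      have hd' : d ∈ T := hd
      change d ∈ J.colon ({(∏ d ∈ T, mm d) * x} : Set R)
      rw [Submodule.mem_colon_singleton, smul_eq_mul, ← Finset.mul_prod_erase T mm hd']
      have := J.mul_mem_left (∏ e ∈ T.erase d, mm e) (hmJ d hd')
      convert this using 1
      ring
    intro s hs
    have := Submodule.mem_colon_singleton.mp (hle hs)
    rwa [smul_eq_mul, mul_comm] at this

/-- the colon ideal sheaf `(𝓩 : 𝓓)` on a locally Noetherian scheme. -/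
noncomputable def colon [IsLocallyNoetherian X] (𝓩 𝓓 : X.IdealSheafData) : X.IdealSheafData where
  ideal U := (𝓩.ideal U).colon (𝓓.ideal U : Set Γ(X, U.1))
  map_ideal_basicOpen U f := by
    haveI : IsNoetherianRing Γ(X, U.1) := IsLocallyNoetherian.component_noetherian U
    letI : Algebra Γ(X, U.1) Γ(X, X.basicOpen f) :=
      (X.presheaf.map (homOfLE <| X.basicOpen_le f).op).hom.toAlgebra
    haveI : IsLocalization.Away f Γ(X, X.basicOpen f) := U.2.isLocalization_basicOpen f
    have h := map_colon_of_fg (S := Γ(X, X.basicOpen f)) (Submonoid.powers f) (𝓩.ideal U)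
      (𝓓.ideal U) (IsNoetherian.noetherian _)
    rw [← 𝓩.map_ideal_basicOpen U f, ← 𝓓.map_ideal_basicOpen U f]
    exact h

@[simp] theorem colon_ideal [IsLocallyNoetherian X] (𝓩 𝓓 : X.IdealSheafData)
    (U : X.affineOpens) :
    (colon 𝓩 𝓓).ideal U = (𝓩.ideal U).colon (𝓓.ideal U : Set Γ(X, U.1)) := rfl

theorem le_colon [IsLocallyNoetherian X] (𝓩 𝓓 : X.IdealSheafData) : 𝓩 ≤ colon 𝓩 𝓓 := by
  intro U x hx
  rw [colon_ideal, Submodule.mem_colon]
  intro s _
  exact Ideal.mul_mem_right _ _ hx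

theorem mul_colon_le [IsLocallyNoetherian X] (𝓩 𝓓 : X.IdealSheafData) :
    𝓓 * colon 𝓩 𝓓 ≤ 𝓩 := by
  intro U
  change 𝓓.ideal U * (colon 𝓩 𝓓).ideal U ≤ 𝓩.ideal U
  rw [Ideal.mul_le]
  intro a ha b hb
  rw [mul_comm]
  exact Submodule.mem_colon.mp hb a ha

/-- an affine open cover by charts on which an effective Cartier ideal is principal. -/
theorem exists_chart {𝓓 : X.IdealSheafData} (hD : BlowUp.IsEffCartierIdeal 𝓓) :
    ∃ (W : X → X.affineOpens) (g : ∀ x, Γ(X, (W x).1)), (∀ x, x ∈ (W x).1) ∧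
      (∀ x, g x ∈ nonZeroDivisors Γ(X, (W x).1)) ∧ (∀ x, 𝓓.ideal (W x) = Ideal.span {g x}) ∧
      ⨆ x, (W x).1 = ⊤ := by
  choose W hxW g hg hgD using hD
  refine ⟨W, g, hxW, hg, hgD, ?_⟩
  rw [eq_top_iff]
  intro x _
  exact Opens.mem_iSup.mpr ⟨x, hxW x⟩

/-- **division by an effective Cartier ideal**: an ideal sheaf contained in an effective Cartier
ideal sheaf `𝓓` is `𝓓` times the colon ideal sheaf. -/
theorem mul_colon_eq [IsLocallyNoetherian X] (𝓩 𝓓 : X.IdealSheafData)
    (hD : BlowUp.IsEffCartierIdeal 𝓓) (h : 𝓩 ≤ 𝓓) : 𝓓 * colon 𝓩 𝓓 = 𝓩 := by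
  apply le_antisymm (mul_colon_le 𝓩 𝓓)
  obtain ⟨W, g, -, -, hgD, hcov⟩ := exists_chart hD
  refine Scheme.IdealSheafData.le_of_iSup_eq_top W hcov (fun x => ?_)
  intro a ha
  change a ∈ 𝓓.ideal (W x) * (colon 𝓩 𝓓).ideal (W x)
  have ha' : a ∈ 𝓓.ideal (W x) := h (W x) ha
  rw [hgD x, Ideal.mem_span_singleton'] at ha'
  obtain ⟨c, rfl⟩ := ha'
  have hgoal : g x * c ∈ 𝓓.ideal (W x) * (colon 𝓩 𝓓).ideal (W x) := by
    refine Ideal.mul_mem_mul (by rw [hgD x]; exact Ideal.mem_span_singleton_self _) ?_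
    rw [colon_ideal, Submodule.mem_colon]
    intro s hs
    rw [hgD x, SetLike.mem_coe, Ideal.mem_span_singleton'] at hs
    obtain ⟨r, rfl⟩ := hs
    rw [smul_eq_mul]
    have : c * (r * g x) = r * (c * g x) := by ring
    rw [this]
    exact Ideal.mul_mem_left _ _ ha
  rwa [mul_comm (g x) c] at hgoal

end Groth.Agent.H5.EffDec
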