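import Mathlib
import Groth.Agent.Lib.Helper5.EffDec.A
import Groth.Agent.Lib.Helper5.Snap.Integral
import Groth.Agent.H4.PicDim1

/-!
# Points of affine opens, heights and codimension estimates
-/

set_option autoImplicit false
universe u
open CategoryTheory AlgebraicGeometry TopologicalSpace

namespace Groth.Agent.H5.EffDec

open Groth.Agent.H4.PicDim1

variable {X : Scheme.{u}}

section Dict
variable {W : X.Opens} (hW : IsAffineOpen W)

/-- the prime of a point of an affine open. -/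
noncomputable abbrev pr (x : X) (hx : x ∈ W) : Ideal Γ(X, W) := (hW.primeIdealOf ⟨x, hx⟩).asIdeal

theorem height_pr (x : X) (hx : x ∈ W) :
    ((pr hW x hx).height : WithBot ℕ∞) = ringKrullDim (X.presheaf.stalk x) := by
  letI := X.presheaf.algebra_section_stalk ⟨x, hx⟩
  haveI := hW.isLocalization_stalk ⟨x, hx⟩
  exact (IsLocalization.AtPrime.ringKrullDim_eq_height (hW.primeIdealOf ⟨x, hx⟩).asIdeal
    (X.presheaf.stalk x)).symm

theorem mem_support_iff_le (I : X.IdealSheafData) (x : X) (hx : x ∈ W) :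
    x ∈ I.support ↔ I.ideal ⟨W, hW⟩ ≤ pr hW x hx := by
  rw [Scheme.IdealSheafData.mem_support_iff_of_mem (U := ⟨W, hW⟩) hx, Scheme.mem_zeroLocus_iff]
  constructor
  · intro h f hf
    by_contra hfx
    exact h f hf ((mem_basicOpen_iff hW f x hx).mpr hfx)
  · intro h f hf hxf
    exact (mem_basicOpen_iff hW f x hx).mp hxf (h hf)

theorem pr_le_of_specializes {x y : X} (h : y ⤳ x) (hx : x ∈ W) :
    ∃ hy : y ∈ W, pr hW y hy ≤ pr hW x hx := by
  have hy : y ∈ W := h.mem_open W.2 hx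
  refine ⟨hy, fun f hf => ?_⟩
  by_contra hfx
  have h1 : x ∈ X.basicOpen f := (mem_basicOpen_iff hW f x hx).mpr hfx
  have h2 : y ∈ X.basicOpen f := h.mem_open (X.basicOpen f).2 h1
  exact (mem_basicOpen_iff hW f y hy).mp h2 hf

theorem specializes_of_pr_le {x y : X} (hx : x ∈ W) (hy : y ∈ W)
    (h : pr hW y hy ≤ pr hW x hx) : y ⤳ x := by
  rw [specializes_iff_forall_open]
  intro O hO hxO
  obtain ⟨f, hfO, hxf⟩ := hW.exists_basicOpen_le (V := ⟨O, hO⟩) ⟨x, hxO⟩ hx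
  apply hfO
  rw [mem_basicOpen_iff hW f y hy]
  intro hfy
  exact (mem_basicOpen_iff hW f x hx).mp hxf (h hfy)

/-- the point of a prime ideal of an affine open. -/
theorem exists_point_of_prime (Q : Ideal Γ(X, W)) [hQ : Q.IsPrime] :
    ∃ (y : X) (hy : y ∈ W), pr hW y hy = Q := by
  let q : PrimeSpectrum Γ(X, W) := ⟨Q, hQ⟩
  have hy : hW.fromSpec q ∈ W := by
    have : hW.fromSpec q ∈ Set.range hW.fromSpec := Set.mem_range_self q
    rwa [hW.range_fromSpec] at this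
  refine ⟨hW.fromSpec q, hy, ?_⟩
  have : hW.primeIdealOf ⟨hW.fromSpec q, hy⟩ = q :=
    hW.fromSpec.isOpenEmbedding.injective (hW.fromSpec_primeIdealOf ⟨hW.fromSpec q, hy⟩)
  exact congrArg PrimeSpectrum.asIdeal this

theorem eq_of_pr_eq {x y : X} (hx : x ∈ W) (hy : y ∈ W) (h : pr hW x hx = pr hW y hy) : x = y :=
  eq_of_primeIdealOf_eq hW x y hx hy h

end Dict

/-- points of a closed subset all of whose maximal points have codimension `≥ 2` have
codimension `≥ 2`. -/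
theorem two_le_dim_of_mem (Z' : Set X) (hZ' : IsClosed Z')
    (hcodim : ∀ z ∈ Z', (∀ y ∈ Z', y ⤳ z → y = z) →
      (2 : WithBot ℕ∞) ≤ ringKrullDim (X.presheaf.stalk z))
    (z : X) (hz : z ∈ Z') : (2 : WithBot ℕ∞) ≤ ringKrullDim (X.presheaf.stalk z) := by
  obtain ⟨W, hW, hzW, -⟩ := exists_isAffineOpen_mem_and_subset (x := z) (U := ⊤) trivial
  set 𝓘 := Scheme.IdealSheafData.vanishingIdeal (⟨Z', hZ'⟩ : Closeds X) with h𝓘
  have hsupp : ∀ y : X, y ∈ 𝓘.support ↔ y ∈ Z' := by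
    intro y
    rw [← SetLike.mem_coe, Scheme.IdealSheafData.coe_support_vanishingIdeal]
    rfl
  have hJz : 𝓘.ideal ⟨W, hW⟩ ≤ pr hW z hzW := (mem_support_iff_le hW 𝓘 z hzW).mp ((hsupp z).mpr hz)
  obtain ⟨Q, hQmin, hQz⟩ := Ideal.exists_minimalPrimes_le hJz
  haveI hQp : Q.IsPrime := hQmin.1.1
  obtain ⟨z', hz'W, hz'Q⟩ := exists_point_of_prime hW Q
  have hz'Z : z' ∈ Z' := by
    rw [← hsupp, mem_support_iff_le hW 𝓘 z' hz'W, hz'Q]
    exact hQmin.1.2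
  have hmax : ∀ y ∈ Z', y ⤳ z' → y = z' := by
    intro y hy hyz'
    obtain ⟨hyW, hle⟩ := pr_le_of_specializes hW hyz' hz'W
    have h1 : 𝓘.ideal ⟨W, hW⟩ ≤ pr hW y hyW := (mem_support_iff_le hW 𝓘 y hyW).mp ((hsupp y).mpr hy)
    have h2 : Q ≤ pr hW y hyW := hQmin.2 ⟨(hW.primeIdealOf ⟨y, hyW⟩).isPrime, h1⟩ (hz'Q ▸ hle)
    exact eq_of_pr_eq hW hyW hz'W (le_antisymm (hz'Q ▸ hle) (hz'Q ▸ h2))
  have h2 := hcodim z' hz'Z hmax
  rw [← height_pr hW z' hz'W, hz'Q] at h2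
  rw [← height_pr hW z hzW]
  exact h2.trans (by exact_mod_cast Ideal.height_mono hQz)

/-- points of an effective Cartier divisor have codimension `≥ 1`. -/
theorem one_le_dim_of_mem_support {𝓓 : X.IdealSheafData} (hD : BlowUp.IsEffCartierIdeal 𝓓)
    (z : X) (hz : z ∈ 𝓓.support) : (1 : WithBot ℕ∞) ≤ ringKrullDim (X.presheaf.stalk z) := by
  obtain ⟨W, hzW, g, hg, hgD⟩ := hD z
  have hgz : g ∈ pr W.2 z hzW := by
    apply (mem_support_iff_le W.2 𝓓 z hzW).mp hz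
    rw [hgD]
    exact Ideal.mem_span_singleton_self g
  rw [← height_pr W.2 z hzW]
  have hne : (pr W.2 z hzW).height ≠ 0 := by
    rw [Ne, Ideal.height_eq_zero_iff]
    intro hmin
    exact (Set.disjoint_left.mp (Ideal.disjoint_nonZeroDivisors_of_mem_minimalPrimes hmin)) hgz hg
  exact_mod_cast Order.one_le_iff_pos.mpr (pos_iff_ne_zero.mpr hne)

/-- the generic point of an integral closed subscheme. -/
noncomputable abbrev gp (𝓓 : X.IdealSheafData) [IsIntegral 𝓓.subscheme] : X :=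
  𝓓.subschemeι (genericPoint 𝓓.subscheme)

theorem gp_mem_support (𝓓 : X.IdealSheafData) [IsIntegral 𝓓.subscheme] : gp 𝓓 ∈ 𝓓.support := by
  rw [← SetLike.mem_coe, Groth.Agent.H5.Snap.support_eq_closure_of_isIntegral]
  exact subset_closure rfl

theorem gp_specializes (𝓓 : X.IdealSheafData) [IsIntegral 𝓓.subscheme] (z : X)
    (hz : z ∈ 𝓓.support) : gp 𝓓 ⤳ z := by
  rw [specializes_iff_mem_closure, ← Groth.Agent.H5.Snap.support_eq_closure_of_isIntegral]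
  exact hz

/-- an ideal sheaf is contained in the ideal sheaf of an integral closed subscheme as soon as
its support contains the generic point. -/
theorem le_of_gp_mem_support (𝓓 : X.IdealSheafData) [IsIntegral 𝓓.subscheme]
    (𝓩 : X.IdealSheafData) (h : gp 𝓓 ∈ 𝓩.support) : 𝓩 ≤ 𝓓 := by
  rw [← Groth.Agent.H5.Snap.eq_vanishingIdeal_of_isIntegral 𝓓,
    ← Scheme.IdealSheafData.le_support_iff_le_vanishingIdeal]
  intro y hy
  have hy' : y ∈ closure ({gp 𝓓} : Set X) := hy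
  exact (specializes_iff_mem_closure.mpr hy').mem_closed 𝓩.support.2 h

/-- points of an integral effective Cartier divisor other than the generic point have
codimension `≥ 2`. -/
theorem two_le_dim_of_ne_gp [IsLocallyNoetherian X] {𝓓 : X.IdealSheafData}
    (hD : BlowUp.IsEffCartierIdeal 𝓓) [IsIntegral 𝓓.subscheme] (z : X) (hz : z ∈ 𝓓.support)
    (hne : z ≠ gp 𝓓) : (2 : WithBot ℕ∞) ≤ ringKrullDim (X.presheaf.stalk z) := by
  obtain ⟨W, hzW, g, hg, hgD⟩ := hD z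
  haveI : IsNoetherianRing Γ(X, W.1) := IsLocallyNoetherian.component_noetherian W
  obtain ⟨hηW, hle⟩ := pr_le_of_specializes W.2 (gp_specializes 𝓓 z hz) hzW
  have hlt : pr W.2 (gp 𝓓) hηW < pr W.2 z hzW := by
    refine lt_of_le_of_ne hle (fun h => hne ?_)
    exact (eq_of_pr_eq W.2 hηW hzW h).symm
  have hgη : g ∈ pr W.2 (gp 𝓓) hηW := by
    apply (mem_support_iff_le W.2 𝓓 _ hηW).mp (gp_mem_support 𝓓)
    rw [hgD]
    exact Ideal.mem_span_singleton_self g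
  obtain ⟨Q₀, hQ₀, hQ₀le⟩ := Ideal.exists_minimalPrimes_le
    (bot_le : (⊥ : Ideal Γ(X, W.1)) ≤ pr W.2 (gp 𝓓) hηW)
  haveI : Q₀.IsPrime := hQ₀.1.1
  have hgQ : g ∉ Q₀ := fun h =>
    (Set.disjoint_left.mp (Ideal.disjoint_nonZeroDivisors_of_mem_minimalPrimes hQ₀)) h hg
  have hlt₀ : Q₀ < pr W.2 (gp 𝓓) hηW := lt_of_le_of_ne hQ₀le (fun h => hgQ (h ▸ hgη))
  have h1 := Ideal.height_strict_mono_of_isPrime_of_isPrime hlt₀
  have h2 := Ideal.height_strict_mono_of_isPrime_of_isPrime hlt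
  rw [← height_pr W.2 z hzW]
  have h3 : (2 : ℕ∞) ≤ (pr W.2 z hzW).height := by
    have h4 : (1 : ℕ∞) ≤ (pr W.2 (gp 𝓓) hηW).height :=
      Order.one_le_iff_pos.mpr (lt_of_le_of_lt bot_le h1)
    calc (2 : ℕ∞) = 1 + 1 := by norm_num
      _ ≤ (pr W.2 (gp 𝓓) hηW).height + 1 := by gcongr
      _ ≤ (pr W.2 z hzW).height := Order.add_one_le_of_lt h2
  exact (WithBot.coe_le_coe.mpr h3 : ((2 : ℕ∞) : WithBot ℕ∞) ≤ _)

section Family
variable [IsLocallyNoetherian X] {I : Type*} (𝓓 : I → X.IdealSheafData)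
  (hD : ∀ i, BlowUp.IsEffCartierIdeal (𝓓 i)) [hDint : ∀ i, IsIntegral (𝓓 i).subscheme]
  (Z' : Set X) (hZ' : IsClosed Z')
  (hcodim : ∀ z ∈ Z', (∀ y ∈ Z', y ⤳ z → y = z) →
    (2 : WithBot ℕ∞) ≤ ringKrullDim (X.presheaf.stalk z))

include hD hZ' hcodim in
/-- points of `Z' ∪ ⋃ D_i` have codimension `≥ 1`. -/
theorem one_le_dim_of_mem_cover (z : X)
    (hz : z ∈ Z' ∪ ⋃ i, ((𝓓 i).support : Set X)) :
    (1 : WithBot ℕ∞) ≤ ringKrullDim (X.presheaf.stalk z) := by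
  rcases hz with hz | hz
  · exact le_trans (by norm_num) (two_le_dim_of_mem Z' hZ' hcodim z hz)
  · obtain ⟨i, hi⟩ := Set.mem_iUnion.mp hz
    exact one_le_dim_of_mem_support (hD i) z hi

include hD hZ' hcodim in
/-- **strictness**: dividing an ideal sheaf by one of the divisors containing it strictly
enlarges it. -/
theorem colon_ne (𝓩 : X.IdealSheafData)
    (hcover : (𝓩.support : Set X) ⊆ Z' ∪ ⋃ i, ((𝓓 i).support : Set X)) (i : I)
    (hle : 𝓩 ≤ 𝓓 i) : colon 𝓩 (𝓓 i) ≠ 𝓩 := by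
  intro heq
  have h1 : 𝓓 i * 𝓩 = 𝓩 := by
    have := mul_colon_eq 𝓩 (𝓓 i) (hD i) hle
    rwa [heq] at this
  obtain ⟨W, hzW, g, hg, hgD⟩ := hD i (gp (𝓓 i))
  haveI : IsNoetherianRing Γ(X, W.1) := IsLocallyNoetherian.component_noetherian W
  have h2 : (𝓓 i).ideal W * 𝓩.ideal W = 𝓩.ideal W := by
    have := congrArg (fun J : X.IdealSheafData => J.ideal W) h1
    exact this
  obtain ⟨r, hr1, hr0⟩ := Submodule.exists_sub_one_mem_and_smul_eq_zero_of_fg_of_le_smul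
    ((𝓓 i).ideal W) (𝓩.ideal W) (IsNoetherian.noetherian _) (by
      rw [Ideal.smul_eq_mul, h2])
  have hgz : g ∈ pr W.2 (gp (𝓓 i)) hzW := by
    apply (mem_support_iff_le W.2 (𝓓 i) _ hzW).mp (gp_mem_support (𝓓 i))
    rw [hgD]
    exact Ideal.mem_span_singleton_self g
  have hDz : (𝓓 i).ideal W ≤ pr W.2 (gp (𝓓 i)) hzW :=
    (mem_support_iff_le W.2 (𝓓 i) _ hzW).mp (gp_mem_support (𝓓 i))
  have hrz : r ∉ pr W.2 (gp (𝓓 i)) hzW := by
    intro hr
    have h3 : (1 : Γ(X, W.1)) ∈ pr W.2 (gp (𝓓 i)) hzW := by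
      have := sub_mem hr (hDz hr1)
      simpa using this
    exact (W.2.primeIdealOf ⟨gp (𝓓 i), hzW⟩).isPrime.ne_top ((Ideal.eq_top_iff_one _).mpr h3)
  obtain ⟨Q₀, hQ₀, hQ₀le⟩ := Ideal.exists_minimalPrimes_le
    (bot_le : (⊥ : Ideal Γ(X, W.1)) ≤ pr W.2 (gp (𝓓 i)) hzW)
  haveI hQ₀p : Q₀.IsPrime := hQ₀.1.1
  have hrQ : r ∉ Q₀ := fun h => hrz (hQ₀le h)
  have hJQ : 𝓩.ideal W ≤ Q₀ := by
    intro n hn
    have h3 : r * n ∈ Q₀ := by
      have := hr0 n hn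
      rw [smul_eq_mul] at this
      rw [this]
      exact Q₀.zero_mem
    exact (hQ₀p.mem_or_mem h3).resolve_left hrQ
  obtain ⟨q₀, hq₀W, hq₀Q⟩ := exists_point_of_prime W.2 Q₀
  have hq₀Z : q₀ ∈ 𝓩.support := by
    rw [mem_support_iff_le W.2 𝓩 q₀ hq₀W, hq₀Q]
    exact hJQ
  have h4 := one_le_dim_of_mem_cover 𝓓 hD Z' hZ' hcodim q₀ (hcover hq₀Z)
  rw [← height_pr W.2 q₀ hq₀W, hq₀Q, Ideal.height_eq_zero_iff.mpr hQ₀] at h4
  exact absurd h4 (by norm_num)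

end Family

end Groth.Agent.H5.EffDec
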