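import Mathlib
import Groth.Agent.Lib.Helper5.EffDec.B

/-!
# Decomposition of an ideal sheaf along integral effective Cartier divisors
-/

set_option autoImplicit false
universe u
open CategoryTheory AlgebraicGeometry TopologicalSpace

namespace Groth.Agent.H5.EffDec

variable {X : Scheme.{u}}

section Family
variable {I : Type*} (𝓓 : I → X.IdealSheafData)
  (hD : ∀ i, BlowUp.IsEffCartierIdeal (𝓓 i)) [hDint : ∀ i, IsIntegral (𝓓 i).subscheme]
  (Z' : Set X) (hZ' : IsClosed Z')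
  (hcodim : ∀ z ∈ Z', (∀ y ∈ Z', y ⤳ z → y = z) →
    (2 : WithBot ℕ∞) ≤ ringKrullDim (X.presheaf.stalk z))

include hD hZ' hcodim in
/-- **Decomposition.**  On a Noetherian scheme, an ideal sheaf whose support is contained in the
union of integral effective Cartier divisors `D_i` and a closed subset of codimension `≥ 2` is a
product `∏ 𝓓_i^{a_i} · 𝓨` where `𝓨` is contained in none of the `𝓓_i`. -/
theorem exists_decomposition [IsNoetherian X] :
    ∀ 𝓩 : X.IdealSheafData, (𝓩.support : Set X) ⊆ Z' ∪ ⋃ i, ((𝓓 i).support : Set X) →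
      ∃ (a : I →₀ ℕ) (𝓨 : X.IdealSheafData), 𝓩 = a.prod (fun i n => 𝓓 i ^ n) * 𝓨 ∧
        (∀ i, ¬ 𝓨 ≤ 𝓓 i) ∧ 𝓩 ≤ 𝓨 := by
  classical
  intro 𝓩
  induction 𝓩 using WellFoundedGT.induction with
  | _ 𝓩 ih =>
    intro hcover
    by_cases h : ∃ i, 𝓩 ≤ 𝓓 i
    · obtain ⟨i, hi⟩ := h
      have hlt : 𝓩 < colon 𝓩 (𝓓 i) :=
        lt_of_le_of_ne (le_colon 𝓩 (𝓓 i)) (colon_ne 𝓓 hD Z' hZ' hcodim 𝓩 hcover i hi).symm
      have hcover' : ((colon 𝓩 (𝓓 i)).support : Set X) ⊆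
          Z' ∪ ⋃ i, ((𝓓 i).support : Set X) :=
        fun y hy => hcover (Scheme.IdealSheafData.support_antitone hlt.le hy)
      obtain ⟨a, 𝓨, h1, h2, h3⟩ := ih _ hlt hcover'
      refine ⟨a + Finsupp.single i 1, 𝓨, ?_, h2, (le_colon 𝓩 (𝓓 i)).trans h3⟩
      have hsingle : (Finsupp.single i 1).prod (fun i n => 𝓓 i ^ n) = 𝓓 i := by
        rw [Finsupp.prod_single_index (h := fun i n => 𝓓 i ^ n) (pow_zero _), pow_one]
      have hadd : (a + Finsupp.single i 1).prod (fun i n => 𝓓 i ^ n) =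
          a.prod (fun i n => 𝓓 i ^ n) * 𝓓 i := by
        rw [Finsupp.prod_add_index' (h := fun i n => 𝓓 i ^ n) (fun _ => pow_zero _)
          (fun _ _ _ => pow_add _ _ _), hsingle]
      rw [hadd]
      calc 𝓩 = 𝓓 i * colon 𝓩 (𝓓 i) := (mul_colon_eq 𝓩 (𝓓 i) (hD i) hi).symm
        _ = 𝓓 i * (a.prod (fun i n => 𝓓 i ^ n) * 𝓨) := by rw [← h1]
        _ = a.prod (fun i n => 𝓓 i ^ n) * 𝓓 i * 𝓨 := by
          rw [mul_comm (a.prod _) (𝓓 i), mul_assoc]
    · exact ⟨0, 𝓩, by simp, fun i hi => h ⟨i, hi⟩, le_rfl⟩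

include hD hZ' hcodim in
/-- the residual factor lives in codimension `≥ 2`. -/
theorem two_le_dim_of_mem_support [IsLocallyNoetherian X] (𝓨 : X.IdealSheafData)
    (hY : ∀ i, ¬ 𝓨 ≤ 𝓓 i)
    (hcover : (𝓨.support : Set X) ⊆ Z' ∪ ⋃ i, ((𝓓 i).support : Set X))
    (z : X) (hz : z ∈ 𝓨.support) : (2 : WithBot ℕ∞) ≤ ringKrullDim (X.presheaf.stalk z) := by
  rcases hcover hz with hzZ | hzD
  · exact two_le_dim_of_mem Z' hZ' hcodim z hzZ
  · obtain ⟨i, hi⟩ := Set.mem_iUnion.mp hzD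
    by_cases hzg : z = gp (𝓓 i)
    · exact absurd (le_of_gp_mem_support (𝓓 i) 𝓨 (hzg ▸ hz)) (hY i)
    · exact two_le_dim_of_ne_gp (hD i) z hi hzg

end Family

end Groth.Agent.H5.EffDec
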