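import Mathlib
import Groth.Agent.Lib.Helper5.EffDec.C

/-!
# Effective Cartier divisors supported on integral effective Cartier divisors (Stacks 0BCN, 0AGB)
-/

set_option autoImplicit false
universe u
open CategoryTheory AlgebraicGeometry TopologicalSpace

namespace Groth.Agent.H5.EffDec

variable {X : Scheme.{u}}

/-- an ideal sheaf is the unit ideal on affine opens missing its support. -/
theorem ideal_eq_top_of_disjoint (𝓨 : X.IdealSheafData) (W : X.affineOpens)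
    (h : ∀ y ∈ W.1, y ∉ 𝓨.support) : 𝓨.ideal W = ⊤ := by
  by_contra hne
  obtain ⟨P, hP, hle⟩ := Ideal.exists_le_maximal _ hne
  haveI := hP.isPrime
  obtain ⟨y, hyW, hy⟩ := exists_point_of_prime W.2 P
  exact h y hyW ((mem_support_iff_le W.2 𝓨 y hyW).mpr (hy ▸ hle))

/-- the product with another ideal sheaf is smaller. -/
theorem mul_le_left' (𝓐 𝓑 : X.IdealSheafData) : 𝓐 * 𝓑 ≤ 𝓐 := by
  intro U
  change 𝓐.ideal U * 𝓑.ideal U ≤ 𝓐.ideal U
  exact Ideal.mul_le_right (I := 𝓑.ideal U) (J := 𝓐.ideal U) |> fun h => by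
    rw [mul_comm]; exact h

/-- **S8909** -/
theorem exists_divisor_le [IsNoetherian X] (𝓩 : X.IdealSheafData)
    {I : Type*} (𝓓 : I → X.IdealSheafData) (hD : ∀ i, BlowUp.IsEffCartierIdeal (𝓓 i))
    (hDint : ∀ i, IsIntegral (𝓓 i).subscheme)
    (Z' : Set X) (hZ' : IsClosed Z')
    (hcodim : ∀ z ∈ Z', (∀ y ∈ Z', y ⤳ z → y = z) →
      (2 : WithBot ℕ∞) ≤ ringKrullDim (X.presheaf.stalk z))
    (hcover : (𝓩.support : Set X) ⊆ Z' ∪ ⋃ i, ((𝓓 i).support : Set X)) :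
    ∃ a : I →₀ ℕ, 𝓩 ≤ a.prod (fun i n => 𝓓 i ^ n) ∧
      ∃ U : X.Opens, (a.prod (fun i n => 𝓓 i ^ n)).comap U.ι = 𝓩.comap U.ι ∧
        ∀ z ∈ (𝓩.support : Set X) \ (U : Set X), (2 : WithBot ℕ∞) ≤
          ringKrullDim (X.presheaf.stalk z) := by
  obtain ⟨a, 𝓨, h1, h2, h3⟩ := exists_decomposition 𝓓 hD Z' hZ' hcodim 𝓩 hcover
  refine ⟨a, h1 ▸ mul_le_left' _ _, ⟨(𝓨.support : Set X)ᶜ, 𝓨.support.2.isOpen_compl⟩, ?_, ?_⟩
  · ext W : 2
    rw [Scheme.IdealSheafData.ideal_comap_of_isOpenImmersion,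
      Scheme.IdealSheafData.ideal_comap_of_isOpenImmersion]
    congr 1
    conv_rhs => rw [h1]
    rw [Scheme.IdealSheafData.ideal_mul]
    change _ = _ * 𝓨.ideal _
    rw [ideal_eq_top_of_disjoint 𝓨, Ideal.mul_top]
    rintro _ ⟨y, -, rfl⟩
    exact y.2
  · rintro z ⟨hz, hzU⟩
    have hzY : z ∈ 𝓨.support := by
      by_contra hcon
      exact hzU hcon
    exact two_le_dim_of_mem_support 𝓓 hD Z' hZ' hcodim 𝓨 h2
      (fun y hy => hcover (Scheme.IdealSheafData.support_antitone h3 hy)) z hzY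

end Groth.Agent.H5.EffDec
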