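import Mathlib
import Groth.Agent.Lib.Helper5.EffDec.D
import Groth.Agent.Lib.Helper9.Misc.CLM1

/-!
# An effective Cartier divisor supported on integral effective Cartier divisors is a combination
of them (Stacks 0AGB)
-/

set_option autoImplicit false
universe u
open CategoryTheory AlgebraicGeometry TopologicalSpace

namespace Groth.Agent.H5.EffDec

variable {X : Scheme.{u}}

/-- evaluation of ideal sheaves on an affine open, as a monoid homomorphism. -/
noncomputable def idealHom (W : X.affineOpens) : X.IdealSheafData →* Ideal Γ(X, W.1) where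
  toFun 𝓘 := 𝓘.ideal W
  map_one' := by
    change (⊤ : X.IdealSheafData).ideal W = 1
    rw [Ideal.one_eq_top]; rfl
  map_mul' _ _ := rfl

@[simp] theorem idealHom_apply (W : X.affineOpens) (𝓘 : X.IdealSheafData) :
    idealHom W 𝓘 = 𝓘.ideal W := rfl

/-- principal generators restrict to principal generators on smaller affine opens. -/
theorem ideal_eq_span_of_le (𝓘 : X.IdealSheafData) {U W : X.affineOpens} (h : W ≤ U)
    (g : Γ(X, U.1)) (hg : 𝓘.ideal U = Ideal.span {g}) :
    𝓘.ideal W = Ideal.span {(X.presheaf.map (homOfLE h).op).hom g} := by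
  have h1 := 𝓘.map_ideal h
  rw [hg, Ideal.map_span, Set.image_singleton] at h1
  exact h1.symm

/-- a common chart for finitely many effective Cartier ideal sheaves. -/
theorem exists_common_chart {ι : Type*} [Finite ι] (𝓓 : ι → X.IdealSheafData)
    (hD : ∀ i, BlowUp.IsEffCartierIdeal (𝓓 i)) (x : X) :
    ∃ (W : X.affineOpens) (g : ι → Γ(X, W.1)), x ∈ W.1 ∧
      ∀ i, (𝓓 i).ideal W = Ideal.span {g i} := by
  have hch : ∀ i, ∃ (U : X.affineOpens) (g : Γ(X, U.1)), x ∈ U.1 ∧
      (𝓓 i).ideal U = Ideal.span {g} := fun i => by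
    obtain ⟨U, hxU, g, -, hg⟩ := hD i x
    exact ⟨U, g, hxU, hg⟩
  choose U g hxU hgD using hch
  have hV : IsOpen (⋂ i, ((U i).1 : Set X)) := isOpen_iInter_of_finite (fun i => (U i).1.2)
  have hxV : x ∈ (⟨_, hV⟩ : X.Opens) := Set.mem_iInter.mpr hxU
  obtain ⟨W, hW, hxW, hWV⟩ := exists_isAffineOpen_mem_and_subset hxV
  have hle : ∀ i, (⟨W, hW⟩ : X.affineOpens) ≤ U i := fun i y hy => Set.mem_iInter.mp (hWV hy) i
  refine ⟨⟨W, hW⟩, fun i => (X.presheaf.map (homOfLE (hle i)).op).hom (g i), hxW, fun i => ?_⟩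
  exact ideal_eq_span_of_le (𝓓 i) (hle i) (g i) (hgD i)

/-- **Stacks 0AGB.**  On a Noetherian scheme, an effective Cartier divisor whose support is
contained in the union of integral effective Cartier divisors `D_i` equals `∑ a_i D_i`. -/
theorem eq_prod_of_support_subset [IsNoetherian X] (D : X.IdealSheafData)
    (hD : BlowUp.IsEffCartierIdeal D) {r : ℕ} (Ds : Fin r → X.IdealSheafData)
    (hDs : ∀ i, BlowUp.IsEffCartierIdeal (Ds i)) (hint : ∀ i, IsIntegral (Ds i).subscheme)
    (hsub : (D.support : Set X) ⊆ ⋃ i, ((Ds i).support : Set X)) :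
    ∃ a : Fin r → ℕ, D = ∏ i, Ds i ^ a i := by
  classical
  haveI := hint
  have hcodim : ∀ z ∈ (∅ : Set X), (∀ y ∈ (∅ : Set X), y ⤳ z → y = z) →
      (2 : WithBot ℕ∞) ≤ ringKrullDim (X.presheaf.stalk z) :=
    fun z hz => absurd hz (Set.notMem_empty z)
  have hcover : (D.support : Set X) ⊆ ∅ ∪ ⋃ i, ((Ds i).support : Set X) := by
    rw [Set.empty_union]; exact hsub
  obtain ⟨a, 𝓨, h1, h2, h3⟩ := exists_decomposition Ds hDs ∅ isClosed_empty hcodim D hcover
  refine ⟨fun i => a i, ?_⟩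
  rw [Finsupp.prod_fintype _ _ (fun i => pow_zero _)] at h1
  suffices h𝓨 : 𝓨 = ⊤ by
    rw [h1, h𝓨]
    exact mul_one _
  by_contra hne
  have hsupp : 𝓨.support ≠ ⊥ := fun h => hne ((Scheme.IdealSheafData.support_eq_bot_iff 𝓨).mp h)
  obtain ⟨z, hz⟩ : ∃ z, z ∈ 𝓨.support := by
    by_contra hcon
    push Not at hcon
    apply hsupp
    apply SetLike.coe_injective
    rw [Closeds.coe_bot]
    exact Set.eq_empty_iff_forall_notMem.mpr hcon
  have hcover𝓨 : (𝓨.support : Set X) ⊆ ∅ ∪ ⋃ i, ((Ds i).support : Set X) :=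
    fun y hy => hcover (Scheme.IdealSheafData.support_antitone h3 hy)
  -- a common chart
  let F : Option (Fin r) → X.IdealSheafData := fun o => o.elim D Ds
  have hF : ∀ o, BlowUp.IsEffCartierIdeal (F o) := by
    intro o
    cases o with
    | none => exact hD
    | some i => exact hDs i
  obtain ⟨W, g, hzW, hg⟩ := exists_common_chart F hF z
  haveI : IsNoetherianRing Γ(X, W.1) := IsLocallyNoetherian.component_noetherian W
  set f := g none with hfdef
  set gi : Fin r → Γ(X, W.1) := fun i => g (some i) with hgidef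
  have hf : D.ideal W = Ideal.span {f} := hg none
  have hgi : ∀ i, (Ds i).ideal W = Ideal.span {gi i} := fun i => hg (some i)
  set e : Γ(X, W.1) := ∏ i, gi i ^ a i with hedef
  have he : e ∈ nonZeroDivisors Γ(X, W.1) :=
    prod_mem (fun i _ => pow_mem
      (Groth.Agent.H9.CLM.mem_nonZeroDivisors_of_ideal_eq_span (Ds i) (hDs i) W (gi i) (hgi i)) _)
  have hprod : (∏ i, Ds i ^ a i).ideal W = Ideal.span {e} := by
    rw [← idealHom_apply, map_prod]
    simp only [map_pow, idealHom_apply, hgi, Ideal.span_singleton_pow]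
    exact Ideal.prod_span_singleton _ _
  have h1W : Ideal.span {f} = Ideal.span {e} * 𝓨.ideal W := by
    rw [← hf, ← hprod, h1]
    rfl
  obtain ⟨y₀, hy₀, hey₀⟩ := Ideal.mem_span_singleton_mul.mp
    (h1W ▸ Ideal.mem_span_singleton_self f)
  have hY : 𝓨.ideal W = Ideal.span {y₀} := by
    apply le_antisymm
    · intro y hy
      have h4 : e * y ∈ Ideal.span {f} := by
        rw [h1W]
        exact Ideal.mul_mem_mul (Ideal.mem_span_singleton_self e) hy
      obtain ⟨c, hc⟩ := Ideal.mem_span_singleton'.mp h4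
      rw [← hey₀] at hc
      have h5 : e * (c * y₀) = e * y := by rw [← hc]; ring
      have h6 : c * y₀ = y := (mul_cancel_left_mem_nonZeroDivisors he).mp h5
      rw [← h6]
      exact Ideal.mul_mem_left _ _ (Ideal.mem_span_singleton_self y₀)
    · rw [Ideal.span_singleton_le_iff_mem]
      exact hy₀
  have hYz : Ideal.span {y₀} ≤ pr W.2 z hzW := by
    rw [← hY]
    exact (mem_support_iff_le W.2 𝓨 z hzW).mp hz
  obtain ⟨P, hP, hPle⟩ := Ideal.exists_minimalPrimes_le hYz
  haveI : P.IsPrime := hP.1.1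
  have hht : P.height ≤ 1 :=
    Ideal.height_le_one_of_isPrincipal_of_mem_minimalPrimes (Ideal.span {y₀}) P hP
  obtain ⟨p, hpW, hpP⟩ := exists_point_of_prime W.2 P
  have hp𝓨 : p ∈ 𝓨.support := by
    rw [mem_support_iff_le W.2 𝓨 p hpW, hpP]
    exact hY.le.trans hP.1.2
  have h2le := two_le_dim_of_mem_support Ds hDs ∅ isClosed_empty hcodim 𝓨 h2 hcover𝓨 p hp𝓨
  rw [← height_pr W.2 p hpW, hpP] at h2le
  have h7 : (2 : ℕ∞) ≤ P.height :=
    WithBot.coe_le_coe.mp (h2le : ((2 : ℕ∞) : WithBot ℕ∞) ≤ _)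
  exact absurd (h7.trans hht) (by norm_num)

end Groth.Agent.H5.EffDec
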