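import Mathlib
import Groth.Agent.Lib.Helper5.EffDec.D
import Groth.Agent.Lib.Helper5.Curve6.IdealInv
import Groth.Agent.Lib.Helper1.PunctAff4

/-!
# The complement of a dense affine open in a locally factorial Noetherian scheme is an effective
Cartier divisor (Stacks 0BCU)
-/

set_option autoImplicit false
universe u
open CategoryTheory AlgebraicGeometry TopologicalSpace

namespace Groth.Agent.H5.EffDec

section Algebra

/-- in a unique factorisation domain a finite intersection of principal ideals is principal. -/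
theorem exists_span_eq_iInf {A : Type*} [CommRing A] [IsDomain A] [UniqueFactorizationMonoid A]
    {ι : Type*} (s : Finset ι) (π : ι → A) :
    ∃ g : A, (⨅ i ∈ s, Ideal.span {π i}) = Ideal.span {g} ∧ (g = 0 → ∃ i ∈ s, π i = 0) := by
  classical
  letI := UniqueFactorizationMonoid.normalizationMonoid (α := A)
  letI := UniqueFactorizationMonoid.toNormalizedGCDMonoid A
  refine ⟨s.lcm π, ?_, ?_⟩
  · ext x
    simp only [Ideal.mem_iInf, Ideal.mem_span_singleton]
    exact Finset.lcm_dvd_iff.symm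
  · intro h
    rw [Finset.lcm_eq_zero_iff] at h
    obtain ⟨i, hi, hi0⟩ := h
    exact ⟨i, hi, hi0⟩

/-- a nonzero prime of height `≤ 1` in a UFD is principal. -/
theorem exists_span_eq_of_height_le_one {A : Type*} [CommRing A] [IsDomain A]
    [UniqueFactorizationMonoid A] [IsNoetherianRing A] (q : Ideal A) [hq : q.IsPrime] (hne : q ≠ ⊥)
    (hht : q.height ≤ 1) : ∃ π : A, π ≠ 0 ∧ q = Ideal.span {π} := by
  obtain ⟨x, hx, hprime⟩ := Ideal.IsPrime.exists_mem_prime_of_ne_bot hq hne
  refine ⟨x, hprime.ne_zero, ?_⟩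
  have hle : Ideal.span {x} ≤ q := (Ideal.span_singleton_le_iff_mem _).mpr hx
  by_contra hneq
  haveI : (Ideal.span {x}).IsPrime := (Ideal.span_singleton_prime hprime.ne_zero).mpr hprime
  have hlt : Ideal.span {x} < q := lt_of_le_of_ne hle (fun h => hneq h.symm)
  have hbot : (⊥ : Ideal A) < Ideal.span {x} := by
    rw [bot_lt_iff_ne_bot]
    intro h
    exact hprime.ne_zero (Ideal.span_singleton_eq_bot.mp h)
  have h1 := Ideal.height_strict_mono_of_isPrime_of_isPrime hbot
  have h2 := Ideal.height_strict_mono_of_isPrime_of_isPrime hlt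
  have h3 : (1 : ℕ∞) ≤ (Ideal.span {x}).height := Order.one_le_iff_pos.mpr (lt_of_le_of_lt bot_le h1)
  have h4 : (1 : ℕ∞) < q.height := lt_of_le_of_lt h3 h2
  exact absurd (lt_of_lt_of_le h4 hht) (lt_irrefl _)

/-- **Local principality.**  Let `A = R_P` be a UFD and `I ⊆ R` a radical ideal all of whose
minimal primes have height one.  Then `I A` is generated by one nonzero element. -/
theorem exists_span_eq_map_of_height_one {R : Type*} [CommRing R] [IsNoetherianRing R]
    (P : Ideal R) [P.IsPrime] (A : Type*) [CommRing A] [Algebra R A] [IsLocalization.AtPrime A P]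
    [IsDomain A] [UniqueFactorizationMonoid A] (I : Ideal R) (hrad : I.IsRadical)
    (hht : ∀ q ∈ I.minimalPrimes, q.height = 1) :
    ∃ γ : A, γ ≠ 0 ∧ I.map (algebraMap R A) = Ideal.span {γ} := by
  classical
  haveI : IsNoetherianRing A := IsLocalization.isNoetherianRing P.primeCompl A inferInstance
  set J := I.map (algebraMap R A) with hJ
  have hJrad : J.radical = J := by
    rw [hJ, ← IsLocalization.map_radical P.primeCompl, hrad.radical]
  have hfin : J.minimalPrimes.Finite := Ideal.finite_minimalPrimes_of_isNoetherianRing A J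
  have hmin : ∀ q ∈ J.minimalPrimes, ∃ π : A, π ≠ 0 ∧ q = Ideal.span {π} := by
    intro q hq
    haveI : q.IsPrime := hq.1.1
    have hq' : q.under R ∈ I.minimalPrimes := by
      have := hq
      rw [hJ, IsLocalization.minimalPrimes_map P.primeCompl A I] at this
      exact this
    have h1 : q.height = 1 := by
      rw [← IsLocalization.height_under P.primeCompl q]
      exact hht _ hq'
    refine exists_span_eq_of_height_le_one q ?_ h1.le
    intro h
    rw [h] at h1
    simp at h1
  choose! π hπ0 hπ using hmin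
  obtain ⟨g, hg, hg0⟩ := exists_span_eq_iInf hfin.toFinset π
  refine ⟨g, ?_, ?_⟩
  · intro h
    obtain ⟨q, hq, hq0⟩ := hg0 h
    exact hπ0 q (hfin.mem_toFinset.mp hq) hq0
  · rw [← hJrad, ← Ideal.sInf_minimalPrimes, ← hg, sInf_eq_iInf]
    apply le_antisymm
    · refine le_iInf₂ fun q hq => ?_
      rw [← hπ q (hfin.mem_toFinset.mp hq)]
      exact iInf₂_le q (hfin.mem_toFinset.mp hq)
    · refine le_iInf₂ fun q hq => ?_
      rw [hπ q hq]
      exact iInf₂_le q (hfin.mem_toFinset.mpr hq)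

end Algebra

section Chart

variable {X : Scheme.{u}}

open Groth.Agent.H5.Curve6 in
/-- **Chart lemma.**  If the stalk at `y` of an ideal sheaf on a locally Noetherian scheme is
generated by one nonzero element and the local ring at `y` is a domain, then the ideal sheaf is
generated by a nonzerodivisor on an affine open neighbourhood of `y`. -/
theorem exists_chart_of_stalk_principal [IsLocallyNoetherian X] (I : X.IdealSheafData) (y : X)
    (U : X.Opens) (hU : IsAffineOpen U) (hyU : y ∈ U) [IsDomain (X.presheaf.stalk y)]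
    (h : letI : Algebra Γ(X, U) (X.presheaf.stalk y) :=
        TopCat.Presheaf.algebra_section_stalk X.presheaf ⟨y, hyU⟩
      ∃ γ : X.presheaf.stalk y, γ ≠ 0 ∧
        (I.ideal ⟨U, hU⟩).map (algebraMap Γ(X, U) (X.presheaf.stalk y)) = Ideal.span {γ}) :
    ∃ W : X.affineOpens, y ∈ W.1 ∧
      ∃ f : Γ(X, W.1), f ∈ nonZeroDivisors Γ(X, W.1) ∧ I.ideal W = Ideal.span {f} := by
  classical
  haveI : IsNoetherianRing Γ(X, U) := IsLocallyNoetherian.component_noetherian ⟨U, hU⟩
  letI : Algebra Γ(X, U) (X.presheaf.stalk y) :=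
    TopCat.Presheaf.algebra_section_stalk X.presheaf ⟨y, hyU⟩
  haveI hloc : IsLocalization.AtPrime (X.presheaf.stalk y)
      (hU.primeIdealOf ⟨y, hyU⟩).asIdeal := hU.isLocalization_stalk ⟨y, hyU⟩
  set P := (hU.primeIdealOf ⟨y, hyU⟩).asIdeal with hP
  obtain ⟨γ, hγ0, hγ⟩ := h
  have hfg : (I.ideal ⟨U, hU⟩).FG := (isNoetherianRing_iff_ideal_fg _).mp inferInstance _
  obtain ⟨g₁, hg₁, a, haI, hgen, hmul⟩ :=
    exists_smul_le_span_ideal P (I.ideal ⟨U, hU⟩) hfg (X.presheaf.stalk y) ⟨γ, hγ⟩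
  -- the germ of `a` is nonzero
  have ha0 : algebraMap Γ(X, U) (X.presheaf.stalk y) a ≠ 0 := by
    intro h0
    rw [hγ, h0] at hgen
    have : γ ∈ Ideal.span {(0 : X.presheaf.stalk y)} := hgen ▸ Ideal.mem_span_singleton_self γ
    rw [Ideal.mem_span_singleton, zero_dvd_iff] at this
    exact hγ0 this
  -- kill the annihilator of `a`
  let K : Ideal Γ(X, U) := LinearMap.ker (LinearMap.mulLeft Γ(X, U) a)
  have hKmem : ∀ n, n ∈ K ↔ a * n = 0 := fun n => by
    change LinearMap.mulLeft Γ(X, U) a n = 0 ↔ _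
    rfl
  have hKfg : K.FG := (isNoetherianRing_iff_ideal_fg _).mp inferInstance _
  have hkill : ∀ n ∈ K, ∃ s : Γ(X, U), s ∉ P ∧ s * n = 0 := by
    intro n hn
    have h1 : algebraMap Γ(X, U) (X.presheaf.stalk y) a *
        algebraMap Γ(X, U) (X.presheaf.stalk y) n = 0 := by
      rw [← map_mul, (hKmem n).mp hn, map_zero]
    have h2 : algebraMap Γ(X, U) (X.presheaf.stalk y) n = 0 :=
      (mul_eq_zero.mp h1).resolve_left ha0
    obtain ⟨m, hm⟩ := (IsLocalization.map_eq_zero_iff P.primeCompl (X.presheaf.stalk y) n).mp h2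
    exact ⟨m.1, m.2, hm⟩
  obtain ⟨T, hT⟩ := hKfg
  have hT' : ∀ n ∈ T, n ∈ K := fun n hn => hT ▸ Ideal.subset_span hn
  choose! s hsP hs using hkill
  set h₂ : Γ(X, U) := ∏ n ∈ T, s n with hh₂
  have hh₂P : h₂ ∉ P := by
    intro hmem
    obtain ⟨n, hnT, hn⟩ := (Ideal.IsPrime.prod_mem_iff).mp hmem
    exact hsP n (hT' n hnT) hn
  have hh₂K : ∀ n ∈ K, h₂ * n = 0 := by
    intro n hn
    rw [← hT] at hn
    refine Submodule.span_induction ?_ ?_ ?_ ?_ hn
    · intro x hx
      obtain ⟨d, hd⟩ := Finset.dvd_prod_of_mem s hx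
      rw [hh₂, hd, mul_right_comm, hs x (hT' x hx), zero_mul]
    · simp
    · intro x z _ _ hx hz
      rw [mul_add, hx, hz, add_zero]
    · intro r x _ hx
      rw [smul_eq_mul, mul_left_comm, hx, mul_zero]
  obtain ⟨f, hf⟩ : ∃ f : Γ(X, U), f = g₁ * h₂ := ⟨_, rfl⟩
  have hfP : f ∉ P := fun hmem =>
    (Ideal.IsPrime.mem_or_mem inferInstance (hf ▸ hmem)).elim hg₁ hh₂P
  have hyf : y ∈ X.basicOpen f := (Groth.Agent.H4.PicDim1.mem_basicOpen_iff hU f y hyU).mpr hfP
  have hfK : ∀ n ∈ K, f * n = 0 := fun n hn => by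
    rw [hf, mul_assoc, hh₂K n hn, mul_zero]
  haveI hloc' : IsLocalization.Away f Γ(X, X.basicOpen f) := hU.isLocalization_basicOpen f
  refine ⟨X.affineBasicOpen (U := ⟨U, hU⟩) f, hyf, ?_⟩
  change ∃ f' : Γ(X, X.basicOpen f), f' ∈ nonZeroDivisors Γ(X, X.basicOpen f) ∧
    I.ideal (X.affineBasicOpen (U := ⟨U, hU⟩) f) = Ideal.span {f'}
  refine ⟨algebraMap Γ(X, U) Γ(X, X.basicOpen f) a, ?_, ?_⟩
  · -- nonzerodivisor
    refine mem_nonZeroDivisors_iff_right.mpr ?_
    intro β hβ
    obtain ⟨⟨b, t⟩, hbt⟩ := IsLocalization.surj (Submonoid.powers f) β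
    have hbt' : β * algebraMap Γ(X, U) Γ(X, X.basicOpen f) (t : Γ(X, U)) =
        algebraMap Γ(X, U) Γ(X, X.basicOpen f) b := hbt
    have h1 : algebraMap Γ(X, U) Γ(X, X.basicOpen f) (a * b) = 0 := by
      rw [map_mul, ← hbt', ← mul_assoc, mul_comm _ β, hβ, zero_mul]
    obtain ⟨m, hm⟩ := (IsLocalization.map_eq_zero_iff (Submonoid.powers f)
      Γ(X, X.basicOpen f) (a * b)).mp h1
    have h2 : (m : Γ(X, U)) * b ∈ K := by
      rw [hKmem]
      rw [← hm]
      ring
    have h3 : f * ((m : Γ(X, U)) * b) = 0 := hfK _ h2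
    have h4 : algebraMap Γ(X, U) Γ(X, X.basicOpen f) b = 0 := by
      rw [IsLocalization.map_eq_zero_iff (Submonoid.powers f)]
      refine ⟨⟨f, Submonoid.mem_powers f⟩ * m, ?_⟩
      rw [← h3]
      simp only [Submonoid.coe_mul]
      ring
    rw [h4] at hbt'
    have hu : IsUnit (algebraMap Γ(X, U) Γ(X, X.basicOpen f) (t : Γ(X, U))) :=
      IsLocalization.map_units _ t
    exact (hu.mul_left_eq_zero).mp hbt'
  · -- generation
    have hmap := I.map_ideal_basicOpen ⟨U, hU⟩ f
    change Ideal.map (X.presheaf.map (homOfLE (X.basicOpen_le f)).op).hom (I.ideal ⟨U, hU⟩) =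
      I.ideal (X.affineBasicOpen (U := ⟨U, hU⟩) f) at hmap
    rw [← hmap]
    change Ideal.map (algebraMap Γ(X, U) Γ(X, X.basicOpen f)) (I.ideal ⟨U, hU⟩) = _
    apply le_antisymm
    · refine Ideal.map_le_iff_le_comap.mpr ?_
      intro b hb
      obtain ⟨c, hc⟩ := hmul b hb
      rw [Ideal.mem_comap]
      have hu : IsUnit (algebraMap Γ(X, U) Γ(X, X.basicOpen f) f) :=
        IsLocalization.map_units _ (⟨f, Submonoid.mem_powers f⟩ : Submonoid.powers f)
      obtain ⟨w, hw⟩ := hu
      have h2 : algebraMap Γ(X, U) Γ(X, X.basicOpen f) (f * b) =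
          algebraMap Γ(X, U) Γ(X, X.basicOpen f) (h₂ * c * a) := by
        congr 1
        calc f * b = h₂ * (g₁ * b) := by rw [hf]; ring
          _ = h₂ * (c * a) := by rw [hc]
          _ = h₂ * c * a := by ring
      rw [map_mul, map_mul, ← hw] at h2
      have h3 : algebraMap Γ(X, U) Γ(X, X.basicOpen f) b =
          (↑w⁻¹ * algebraMap Γ(X, U) Γ(X, X.basicOpen f) (h₂ * c)) *
            algebraMap Γ(X, U) Γ(X, X.basicOpen f) a := by
        rw [mul_assoc, ← h2, ← mul_assoc, Units.inv_mul, one_mul]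
      rw [h3]
      exact Ideal.mul_mem_left _ _ (Ideal.subset_span rfl)
    · rw [Ideal.span_le, Set.singleton_subset_iff]
      exact Ideal.mem_map_of_mem _ haI

end Chart

section Main

variable {X : Scheme.{u}}

/-- the vanishing ideal sheaf of the complement of an open. -/
noncomputable abbrev complIdeal (U : X.Opens) : X.IdealSheafData :=
  Scheme.IdealSheafData.vanishingIdeal ⟨(U : Set X)ᶜ, U.2.isClosed_compl⟩

theorem mem_support_complIdeal (U : X.Opens) (z : X) : z ∈ (complIdeal U).support ↔ z ∉ U := by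
  rw [← SetLike.mem_coe, Scheme.IdealSheafData.coe_support_vanishingIdeal]
  rfl

/-- the minimal primes of the ideal of the complement of a dense open with affine inclusion have
height one. -/
theorem height_eq_one_of_mem_minimalPrimes [IsLocallyNoetherian X] (U : X.Opens)
    [IsAffineHom U.ι] (hdense : Dense (U : Set X)) (W : X.Opens) (hW : IsAffineOpen W)
    (q : Ideal Γ(X, W)) (hq : q ∈ ((complIdeal U).ideal ⟨W, hW⟩).minimalPrimes) :
    q.height = 1 := by
  haveI : q.IsPrime := hq.1.1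
  obtain ⟨ξ, hξW, hξ⟩ := exists_point_of_prime hW q
  have hξU : ξ ∉ U :=
    (mem_support_complIdeal U ξ).mp ((mem_support_iff_le hW _ ξ hξW).mpr (hξ ▸ hq.1.2))
  have hgen : ∀ η : X, η ∉ U → η ⤳ ξ → η = ξ := by
    intro η hη hspec
    obtain ⟨hηW, hle⟩ := pr_le_of_specializes hW hspec hξW
    have h1 : (complIdeal U).ideal ⟨W, hW⟩ ≤ pr hW η hηW :=
      (mem_support_iff_le hW _ η hηW).mp ((mem_support_complIdeal U η).mpr hη)
    rw [hξ] at hle
    have h2 : q ≤ pr hW η hηW := hq.2 ⟨inferInstance, h1⟩ hle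
    exact eq_of_pr_eq hW hηW hξW ((le_antisymm hle h2).trans hξ.symm)
  have hdim := (Groth.Agent.H1.PunctAff.dim_stalk_eq_one X U ξ hξU hgen).2 hdense
  have h3 := height_pr hW ξ hξW
  rw [hξ, hdim] at h3
  exact_mod_cast h3

/-- **Stacks 0BCU.**  Let `X` be locally Noetherian and `U` a dense open with affine inclusion
such that the local rings of `X` at the points outside `U` are UFDs.  Then the complement of `U`,
with its reduced structure, is an effective Cartier divisor. -/
theorem exists_effCartier_support_eq_compl [IsLocallyNoetherian X] (U : X.Opens)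
    [IsAffineHom U.ι] (hdense : Dense (U : Set X))
    (hufd : ∀ x : X, x ∉ U →
      IsDomain (X.presheaf.stalk x) ∧ UniqueFactorizationMonoid (X.presheaf.stalk x)) :
    ∃ D : X.IdealSheafData, BlowUp.IsEffCartierIdeal D ∧
      (D.support : Set X) = (U : Set X)ᶜ := by
  refine ⟨complIdeal U, ?_, Scheme.IdealSheafData.coe_support_vanishingIdeal _⟩
  intro y
  by_cases hy : y ∈ U
  · obtain ⟨W, hW, hyW, hWU⟩ := exists_isAffineOpen_mem_and_subset (x := y) (U := U) hy
    refine ⟨⟨W, hW⟩, hyW, 1, one_mem _, ?_⟩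
    rw [Ideal.span_singleton_one]
    apply ideal_eq_top_of_disjoint
    intro z hz hzs
    exact (mem_support_complIdeal U z).mp hzs (hWU hz)
  · obtain ⟨W, hW, hyW, -⟩ := exists_isAffineOpen_mem_and_subset (x := y) (U := ⊤) trivial
    obtain ⟨hdom, hufm⟩ := hufd y hy
    haveI := hdom
    haveI := hufm
    haveI : IsNoetherianRing Γ(X, W) := IsLocallyNoetherian.component_noetherian ⟨W, hW⟩
    letI : Algebra Γ(X, W) (X.presheaf.stalk y) :=
      TopCat.Presheaf.algebra_section_stalk X.presheaf ⟨y, hyW⟩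
    haveI hloc : IsLocalization.AtPrime (X.presheaf.stalk y)
        (hW.primeIdealOf ⟨y, hyW⟩).asIdeal := hW.isLocalization_stalk ⟨y, hyW⟩
    have hrad : ((complIdeal U).ideal ⟨W, hW⟩).IsRadical := by
      rw [Scheme.IdealSheafData.vanishingIdeal_ideal]
      exact PrimeSpectrum.isRadical_vanishingIdeal _
    obtain ⟨γ, hγ0, hγ⟩ := exists_span_eq_map_of_height_one (hW.primeIdealOf ⟨y, hyW⟩).asIdeal
      (X.presheaf.stalk y) ((complIdeal U).ideal ⟨W, hW⟩) hrad
      (fun q hq => height_eq_one_of_mem_minimalPrimes U hdense W hW q hq)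
    exact exists_chart_of_stalk_principal (complIdeal U) y W hW hyW ⟨γ, hγ0, hγ⟩

end Main

end Groth.Agent.H5.EffDec
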