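import Mathlib
import Groth.Agent.Lib.Helper5.EffDec.F
import Groth.Agent.Lib.Lead.PD.ConnCartier
import Groth.Agent.Lib.Lead.QC.InvInverse
import Groth.Agent.Lib.Lead.QC.FreeData
import Groth.Agent.Lib.Helper5.Glue.F
import Groth.Agent.Lib.Helper5.GF.GF5

/-!
# Separated locally factorial Noetherian schemes are divisorial
-/

set_option autoImplicit false
universe u
open CategoryTheory AlgebraicGeometry TopologicalSpace

namespace Groth.Agent.H5.EffDec

variable {X : Scheme.{u}}

/-- every point of a Noetherian scheme lies in a dense affine open. -/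
theorem exists_dense_affine (X : Scheme.{u}) [IsNoetherian X] (x : X) :
    ∃ U : X.Opens, IsAffineOpen U ∧ x ∈ U ∧ Dense (U : Set X) := by
  classical
  obtain ⟨U₀, hU₀, hxU₀, -⟩ := exists_isAffineOpen_mem_and_subset (x := x) (U := ⊤) trivial
  have hfinC : (irreducibleComponents X).Finite := NoetherianSpace.finite_irreducibleComponents
  have hfinG : {e : X | closure {e} ∈ irreducibleComponents X}.Finite := by
    refine Set.Finite.of_injOn (f := fun e : X => closure ({e} : Set X)) (fun e he => he) ?_ hfinC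
    intro e _ e' _ h
    have h' : closure ({e} : Set X) = closure {e'} := h
    have h1 : e ⤳ e' := specializes_iff_closure_subset.mpr (by rw [h'])
    have h2 : e' ⤳ e := specializes_iff_closure_subset.mpr (by rw [h'])
    exact (h1.antisymm h2).eq
  set s : Set X := {e : X | closure {e} ∈ irreducibleComponents X ∧ e ∉ U₀} with hs
  have hsfin : s.Finite := hfinG.subset (fun e he => he.1)
  obtain ⟨V, hV, hpair⟩ := Groth.Agent.H5.GF.exists_disjoint_affine_nhds X s hsfin
    (fun ξ hξ => hξ.1) U₀ hU₀.isCompact (fun ξ hξ => hξ.2)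
  have hVaff : IsAffineOpen (⨆ ξ ∈ s, V ξ) :=
    IsAffineOpen.biSup_of_disjoint hsfin (fun ξ hξ => (hV ξ hξ).1) hpair
  have hdisj : Disjoint U₀ (⨆ ξ ∈ s, V ξ) := by
    rw [disjoint_iSup₂_iff]
    intro ξ hξ
    exact (hV ξ hξ).2.2.symm
  refine ⟨U₀ ⊔ ⨆ ξ ∈ s, V ξ, hU₀.sup_of_disjoint hVaff hdisj, Or.inl hxU₀, ?_⟩
  intro z
  obtain ⟨e, he⟩ := QuasiSober.sober (isIrreducible_irreducibleComponent (x := z))
    isClosed_irreducibleComponent
  have hze : z ∈ closure ({e} : Set X) := by
    rw [he.def]; exact mem_irreducibleComponent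
  have heG : closure ({e} : Set X) ∈ irreducibleComponents X := by
    rw [he.def]; exact irreducibleComponent_mem_irreducibleComponents z
  have heU : e ∈ ((U₀ ⊔ ⨆ ξ ∈ s, V ξ : X.Opens) : Set X) := by
    by_cases h : e ∈ U₀
    · exact Or.inl h
    · refine Or.inr ?_
      have hes : e ∈ s := ⟨heG, h⟩
      have : V e ≤ ⨆ ξ ∈ s, V ξ := le_iSup₂_of_le e hes le_rfl
      exact this (hV e hes).2.1
  exact closure_mono (Set.singleton_subset_iff.mpr heU) hze

/-- composing a section with an isomorphism does not change its generating locus. -/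
theorem genLocus_comp_iso {L M : X.Modules} (s : Coh.structureModule X ⟶ L) (φ : L ≅ M) :
    CohB1.genLocus M (s ≫ φ.hom) = CohB1.genLocus L s := by
  unfold CohB1.genLocus
  congr 1
  ext U
  simp only [Set.mem_setOf_eq, Functor.map_comp]
  constructor
  · intro h
    exact IsIso.of_isIso_comp_right _ ((Scheme.Modules.restrictFunctor U.ι).map φ.hom)
  · intro h
    infer_instance

open Groth.Agent.LD.QC in
/-- **a separated Noetherian scheme with factorial local rings is divisorial.** -/
theorem hasAmpleFamily_of_factorial (X : Scheme.{u}) [IsNoetherian X] [X.IsSeparated]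
    (hfact : ∀ x : X, ∃ _ : IsDomain (X.presheaf.stalk x),
      UniqueFactorizationMonoid (X.presheaf.stalk x)) :
    MoreMor.HasAmpleFamily X := by
  refine ⟨inferInstance, fun x => ?_⟩
  obtain ⟨U, hU, hxU, hdense⟩ := exists_dense_affine X x
  haveI : IsAffine (U : Scheme.{u}) := hU
  haveI : IsAffineHom (U.ι ≫ Limits.terminal.from X) := isAffineHom_of_isAffine _
  haveI : IsAffineHom U.ι := IsAffineHom.of_comp (f := U.ι) (g := Limits.terminal.from X)
  obtain ⟨D, hD, hsupp⟩ := exists_effCartier_support_eq_compl U hdense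
    (fun y _ => by obtain ⟨h1, h2⟩ := hfact y; exact ⟨h1, h2⟩)
  have hM : PicF.IsInvertible (ClSub.idealMod D) := (isInvertible_idealMod_iff D).mpr hD
  obtain ⟨L, hL, ⟨e⟩⟩ := Groth.Agent.H5.Glue.exists_inverse (ClSub.idealMod D) hM
  let ε : CohB1.tensorMod L (ClSub.idealMod D) ≅ unitMod X := tensorCommGen L (ClSub.idealMod D) ≪≫ e
  have hgl := support_eq_compl_genLocus_cartierSec D L ε hL hM
  have hglU : CohB1.genLocus L (cartierSec D L ε) = U := by
    apply SetLike.coe_injective
    have h1 : ((CohB1.genLocus L (cartierSec D L ε) : X.Opens) : Set X)ᶜ = (U : Set X)ᶜ := by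
      rw [← hgl, hsupp]
    exact compl_injective h1
  have hs' : CohB1.genLocus (CohB1.tensorPow L 1) (cartierSec D L ε ≫ (unitorL' L).inv) = U :=
    (genLocus_comp_iso (cartierSec D L ε) (unitorL' L).symm).trans hglU
  refine ⟨L, 1, cartierSec D L ε ≫ (unitorL' L).inv, hL, le_rfl, ?_, ?_⟩
  · rw [hs']; exact hxU
  · rw [hs']; exact hU

end Groth.Agent.H5.EffDec
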