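import Mathlib
import Groth.Agent.Lib.Helper5.EffDec.G
import Groth.Agent.Lib.Helper3.CA.ABufd2

/-!
# Locally factorial Noetherian schemes with affine diagonal are divisorial
-/

set_option autoImplicit false
universe u
open CategoryTheory AlgebraicGeometry TopologicalSpace

namespace Groth.Agent.H5.EffDec

open Groth.Agent.LD.QC in
/-- **a Noetherian scheme with factorial local rings all of whose affine opens have affine
inclusion is divisorial.** -/
theorem hasAmpleFamily_of_factorial' (X : Scheme.{u}) [IsNoetherian X]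
    (haff : ∀ U : X.Opens, IsAffineOpen U → IsAffineHom U.ι)
    (hfact : ∀ x : X, IsDomain (X.presheaf.stalk x) ∧
      UniqueFactorizationMonoid (X.presheaf.stalk x)) :
    MoreMor.HasAmpleFamily X := by
  refine ⟨inferInstance, fun x => ?_⟩
  obtain ⟨U, hU, hxU, hdense⟩ := exists_dense_affine X x
  haveI : IsAffineHom U.ι := haff U hU
  obtain ⟨D, hD, hsupp⟩ := exists_effCartier_support_eq_compl U hdense (fun y _ => hfact y)
  have hM : PicF.IsInvertible (ClSub.idealMod D) := (isInvertible_idealMod_iff D).mpr hD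
  obtain ⟨L, hL, ⟨e⟩⟩ := Groth.Agent.H5.Glue.exists_inverse (ClSub.idealMod D) hM
  let ε : CohB1.tensorMod L (ClSub.idealMod D) ≅ unitMod X := tensorCommGen L (ClSub.idealMod D) ≪≫ e
  have hgl := support_eq_compl_genLocus_cartierSec D L ε hL hM
  have hglU : CohB1.genLocus L (cartierSec D L ε) = U := by
    apply SetLike.coe_injective
    have h1 : ((CohB1.genLocus L (cartierSec D L ε) : X.Opens) : Set X)ᶜ = (U : Set X)ᶜ := by
      rw [← hgl, hsupp]
    exact compl_injective h1
  have hs' : CohB1.genLocus (CohB1.tensorPow L 1) (cartierSec D L ε ≫ (unitorL' L).inv) = U :=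
    (genLocus_comp_iso (cartierSec D L ε) (unitorL' L).symm).trans hglU
  refine ⟨L, 1, cartierSec D L ε ≫ (unitorL' L).inv, hL, le_rfl, ?_, ?_⟩
  · rw [hs']; exact hxU
  · rw [hs']; exact hU

/-- the inclusion of an affine open is affine when affine opens have affine intersections. -/
theorem isAffineHom_ι_of_inf {X : Scheme.{u}}
    (hdiag : ∀ U V : X.Opens, IsAffineOpen U → IsAffineOpen V → IsAffineOpen (U ⊓ V))
    (U : X.Opens) (hU : IsAffineOpen U) : IsAffineHom U.ι := by
  refine ⟨fun W hW => ?_⟩
  rw [← U.ι.isAffineOpen_iff_of_isOpenImmersion, U.ι.image_preimage_eq_opensRange_inf,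
    Scheme.Opens.opensRange_ι]
  exact hdiag U W hU hW

/-- **a regular Noetherian scheme with affine diagonal is divisorial.** -/
theorem hasAmpleFamily_of_regular (X : Scheme.{u}) [CompactSpace X] [IsLocallyNoetherian X]
    (hreg : ∀ x : X, IsRegularLocalRing (X.presheaf.stalk x))
    (hdiag : ∀ U V : X.Opens, IsAffineOpen U → IsAffineOpen V → IsAffineOpen (U ⊓ V)) :
    MoreMor.HasAmpleFamily X := by
  haveI : IsNoetherian X := {}
  refine hasAmpleFamily_of_factorial' X (isAffineHom_ι_of_inf hdiag) (fun x => ?_)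
  haveI := hreg x
  exact Groth.Agent.H3.ABufd.main (X.presheaf.stalk x)

end Groth.Agent.H5.EffDec
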