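import Mathlib
import Groth.Agent.Lib.Helper5.EffDec.G
import Groth.Agent.Lib.Lead.QC.AmpleFamily
import Groth.Agent.Lib.Lead.QC.LocalBase2
import Groth.Agent.Lib.Lead.SC.AmpleVanish
import Groth.Agent.Lib.Helper7.LocPrAff

/-!
# Ample families from effective Cartier divisors with ample complements (Stacks 0F8B)
-/

set_option autoImplicit false
universe u
open CategoryTheory AlgebraicGeometry TopologicalSpace

namespace Groth.Agent.H5.EffDec

variable {X : Scheme.{u}}

/-- the complement of an effective Cartier divisor has affine inclusion. -/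
theorem isAffineHom_compl_ι (D : X.IdealSheafData) (hD : BlowUp.IsEffCartierIdeal D) :
    IsAffineHom (Scheme.Opens.ι D.support.compl) := by
  refine Groth.Agent.H7.LocPrAff.isAffineHom_of_range_eq_compl_support (Scheme.Opens.ι D.support.compl) D ?_ ?_
  · intro x _
    obtain ⟨U, hxU, f, -, hf⟩ := hD x
    exact ⟨U, hxU, f, hf⟩
  · rw [Scheme.Opens.range_ι]
    rfl

/-- the intersection of an affine open with an open with affine inclusion is affine. -/
theorem isAffineOpen_inf_of_isAffineHom (U : X.Opens) [IsAffineHom U.ι] (A : X.Opens)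
    (hA : IsAffineOpen A) : IsAffineOpen (U ⊓ A) := by
  have h := IsAffineHom.isAffine_preimage (f := U.ι) A hA
  rw [← U.ι.isAffineOpen_iff_of_isOpenImmersion, U.ι.image_preimage_eq_opensRange_inf,
    Scheme.Opens.opensRange_ι] at h
  exact h

open Groth.Agent.LD.QC in
/-- **Stacks 0F8B.** -/
theorem hasAmpleFamily_of_cartier_cover {m : ℕ} (D : Fin m → X.IdealSheafData)
    (hD : ∀ i, BlowUp.IsEffCartierIdeal (D i)) (hcap : ⋂ i, ((D i).support : Set X) = ∅)
    (L : Fin m → X.Modules) (hL : ∀ i, PicF.IsInvertible (L i))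
    (hamp : ∀ i, CohB1.IsAmple ((L i).restrict (Scheme.Opens.ι (D i).support.compl))) :
    MoreMor.HasAmpleFamily X := by
  have hcov : ∀ x : X, ∃ i, x ∈ (D i).support.compl := by
    intro x
    by_contra hcon
    push Not at hcon
    have : x ∈ ⋂ i, ((D i).support : Set X) := Set.mem_iInter.mpr (fun i => by
      by_contra h
      exact hcon i h)
    rw [hcap] at this
    exact this
  haveI haff : ∀ i, IsAffineHom (Scheme.Opens.ι (D i).support.compl) := fun i => isAffineHom_compl_ι (D i) (hD i)
  haveI : CompactSpace X := by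
    rw [← isCompact_univ_iff]
    have h1 : (Set.univ : Set X) = ⋃ i, (((D i).support.compl : X.Opens) : Set X) := by
      ext x
      simp only [Set.mem_univ, Set.mem_iUnion, true_iff]
      exact hcov x
    rw [h1]
    refine isCompact_iUnion (fun i => ?_)
    haveI : CompactSpace ↥((D i).support.compl : X.Opens) := (hamp i).2.1
    exact isCompact_iff_compactSpace.mpr inferInstance
  haveI : QuasiSeparatedSpace X := by
    rw [quasiSeparatedSpace_iff_forall_affineOpens]
    intro A B
    have h1 : ((A : X.Opens) : Set X) ∩ ((B : X.Opens) : Set X) =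
        ⋃ i, ((((D i).support.compl ⊓ A.1 : X.Opens) : Set X) ∩
          (((D i).support.compl ⊓ B.1 : X.Opens) : Set X)) := by
      ext x
      simp only [Set.mem_inter_iff, Set.mem_iUnion, Opens.coe_inf, SetLike.mem_coe]
      constructor
      · rintro ⟨hA, hB⟩
        obtain ⟨i, hi⟩ := hcov x
        exact ⟨i, ⟨hi, hA⟩, ⟨hi, hB⟩⟩
      · rintro ⟨i, ⟨-, hA⟩, ⟨-, hB⟩⟩
        exact ⟨hA, hB⟩
    rw [h1]
    refine isCompact_iUnion (fun i => ?_)
    haveI : QuasiSeparatedSpace ↥((D i).support.compl : X.Opens) :=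
      Groth.Agent.LD.SC.quasiSeparatedSpace_of_isAmple _ (hamp i)
    have hqs : IsQuasiSeparated (((D i).support.compl : X.Opens) : Set X) :=
      (isQuasiSeparated_iff_quasiSeparatedSpace _ (D i).support.compl.2).mpr inferInstance
    have hA := isAffineOpen_inf_of_isAffineHom (D i).support.compl A.1 A.2
    have hB := isAffineOpen_inf_of_isAffineHom (D i).support.compl B.1 B.2
    exact hqs _ _ (fun x hx => hx.1) (Opens.isOpen _) hA.isCompact
      (fun x hx => hx.1) (Opens.isOpen _) hB.isCompact
  refine ⟨inferInstance, fun x => ?_⟩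
  obtain ⟨i, hi⟩ := hcov x
  have hMi : PicF.IsInvertible (ClSub.idealMod (D i)) := (isInvertible_idealMod_iff (D i)).mpr (hD i)
  obtain ⟨M, hM, ⟨e⟩⟩ := Groth.Agent.H5.Glue.exists_inverse (ClSub.idealMod (D i)) hMi
  let ε : CohB1.tensorMod M (ClSub.idealMod (D i)) ≅ unitMod X :=
    tensorCommGen M (ClSub.idealMod (D i)) ≪≫ e
  have hgl := support_eq_compl_genLocus_cartierSec (D i) M ε hM hMi
  have hglU : CohB1.genLocus M (cartierSec (D i) M ε) = (D i).support.compl := by
    apply SetLike.coe_injective
    have h1 : ((CohB1.genLocus M (cartierSec (D i) M ε) : X.Opens) : Set X)ᶜ =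
        (((D i).support.compl : X.Opens) : Set X)ᶜ := by
      rw [← hgl]
      exact (compl_compl _).symm
    exact compl_injective h1
  have hamp' : CohB1.IsAmple ((L i).restrict (CohB1.genLocus M (cartierSec (D i) M ε)).ι) :=
    (isAmple_restrict_iff (CohB1.genLocus M (cartierSec (D i) M ε)).ι (D i).support.compl
      (by rw [Scheme.Opens.opensRange_ι, hglU]) (L i)).mpr (hamp i)
  obtain ⟨k, n', T, hxT, hTaff, -⟩ :=
    exists_affine_genLocus_of_isAmple_restrict M hM (cartierSec (D i) M ε) (L i) (hL i) hamp' x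
      (by rw [hglU]; exact hi)
  let L' := CohB1.tensorMod (CohB1.tensorMod (CohB1.tensorPow (L i) (k + 1))
    (CohB1.tensorPow M n')) M
  have hL' : PicF.IsInvertible L' :=
    isInvertible_tensorMod (isInvertible_tensorMod
      (isInvertible_tensorPow (hL i) (k + 1)) (isInvertible_tensorPow hM n')) hM
  have hs' : CohB1.genLocus (CohB1.tensorPow L' 1) (T ≫ (unitorL' L').inv) =
      CohB1.genLocus L' T := genLocus_comp_iso T (unitorL' L').symm
  refine ⟨L', 1, T ≫ (unitorL' L').inv, hL', le_rfl, ?_, ?_⟩
  · rw [hs']; exact hxT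
  · rw [hs']; exact hTaff

end Groth.Agent.H5.EffDec
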