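import Mathlib
import Groth.Agent.Lib.Helper5.EffDec.F
import Groth.Agent.Lib.Helper1.CartierKit
import Groth.Agent.Lib.Helper9.Misc.BLA21
import Groth.Agent.Lib.Helper9.Misc.MDP6

/-!
# Extending effective Cartier divisors across points with factorial local rings (Stacks 0AGA)
-/

set_option autoImplicit false
universe u
open CategoryTheory AlgebraicGeometry TopologicalSpace

namespace Groth.Agent.H5.EffDec

section Algebra

/-- in a UFD, a prime ideal `𝔭 = (J : a)` such that, up to multipliers outside `𝔭`, `J` is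
generated by one nonzero element `d` near `𝔭`, is principal. -/
theorem exists_prime_span_eq_of_colon {A : Type*} [CommRing A] [IsDomain A]
    [UniqueFactorizationMonoid A] (J 𝔭 : Ideal A) [h𝔭 : 𝔭.IsPrime] (a d : A) (hd : d ≠ 0)
    (ha : ∀ y : A, y ∈ 𝔭 ↔ y * a ∈ J)
    (h1 : ∀ t : A, t ∉ 𝔭 → t * a ∉ Ideal.span {d})
    (h2 : ∃ t₀ : A, t₀ ∉ 𝔭 ∧ ∀ y ∈ 𝔭, t₀ * (y * a) ∈ Ideal.span {d}) :
    ∃ π : A, Prime π ∧ 𝔭 = Ideal.span {π} := by
  classical
  letI : GCDMonoid A := UniqueFactorizationMonoid.toGCDMonoid A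
  obtain ⟨a₁, d₁, ha₁, hd₁, hcop⟩ := extract_gcd a d
  set g := gcd a d with hg
  have hg0 : g ≠ 0 := by
    intro h
    rw [h, zero_mul] at hd₁
    exact hd hd₁
  have hd₁0 : d₁ ≠ 0 := by
    intro h
    rw [h, mul_zero] at hd₁
    exact hd hd₁
  -- `d₁ ∈ 𝔭`
  have hd₁𝔭 : d₁ ∈ 𝔭 := by
    by_contra hcon
    apply h1 d₁ hcon
    rw [Ideal.mem_span_singleton]
    refine ⟨a₁, ?_⟩
    rw [ha₁, hd₁]
    ring
  -- a prime factor of `d₁` in `𝔭`
  obtain ⟨fs, hfs, hprod⟩ := UniqueFactorizationMonoid.exists_prime_factors d₁ hd₁0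
  have hprod𝔭 : fs.prod ∈ 𝔭 := by
    obtain ⟨u, hu⟩ := hprod
    have : fs.prod * (u : A) ∈ 𝔭 := hu ▸ hd₁𝔭
    rcases h𝔭.mem_or_mem this with h | h
    · exact h
    · exact absurd (𝔭.eq_top_of_isUnit_mem h u.isUnit) h𝔭.ne_top
  obtain ⟨π, hπfs, hπ𝔭⟩ := (Ideal.IsPrime.multiset_prod_mem_iff_exists_mem h𝔭 fs).mp hprod𝔭
  have hπ : Prime π := hfs π hπfs
  have hπd₁ : π ∣ d₁ := (Multiset.dvd_prod hπfs).trans hprod.dvd
  refine ⟨π, hπ, le_antisymm ?_ ((Ideal.span_singleton_le_iff_mem _).mpr hπ𝔭)⟩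
  intro y hy
  rw [Ideal.mem_span_singleton]
  obtain ⟨t₀, ht₀, h3⟩ := h2
  have h4 := h3 y hy
  rw [Ideal.mem_span_singleton] at h4
  obtain ⟨c, hc⟩ := h4
  have h5 : t₀ * y * a₁ = d₁ * c := by
    apply mul_left_cancel₀ hg0
    calc g * (t₀ * y * a₁) = t₀ * (y * (g * a₁)) := by ring
      _ = t₀ * (y * a) := by rw [← ha₁]
      _ = d * c := hc
      _ = g * (d₁ * c) := by rw [hd₁]; ring
  have h6 : π ∣ t₀ * y * a₁ := h5 ▸ (hπd₁.mul_right c)
  rcases hπ.dvd_or_dvd h6 with h7 | h7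
  · rcases hπ.dvd_or_dvd h7 with h8 | h8
    · exfalso
      apply ht₀
      obtain ⟨e, he⟩ := h8
      rw [he]
      exact 𝔭.mul_mem_right _ hπ𝔭
    · exact h8
  · exfalso
    have h9 : π ∣ gcd a₁ d₁ := dvd_gcd h7 hπd₁
    exact hπ.not_unit (isUnit_of_dvd_unit h9 hcop)

/-- multipliers: if every element of a finitely generated ideal `I` is pushed into `K` by an
element outside the prime `q`, then one element outside `q` pushes all of `I` into `K`. -/
theorem exists_common_multiplier {R : Type*} [CommRing R] (q : Ideal R) [hq : q.IsPrime]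
    (I K : Ideal R) (hI : I.FG) (h : ∀ i ∈ I, ∃ t : R, t ∉ q ∧ t * i ∈ K) :
    ∃ t : R, t ∉ q ∧ ∀ i ∈ I, t * i ∈ K := by
  classical
  obtain ⟨T, hT⟩ := hI
  have hT' : ∀ b ∈ T, b ∈ I := fun b hb => hT ▸ Ideal.subset_span hb
  choose! g hg hgK using h
  refine ⟨∏ b ∈ T, g b, ?_, ?_⟩
  · intro hmem
    obtain ⟨b, hbT, hb⟩ := (Ideal.IsPrime.prod_mem_iff).mp hmem
    exact hg b (hT' b hbT) hb
  · intro i hi
    rw [← hT] at hi
    refine Submodule.span_induction ?_ ?_ ?_ ?_ hi
    · intro x hx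
      obtain ⟨e, he⟩ := Finset.dvd_prod_of_mem g hx
      rw [he, mul_right_comm]
      exact K.mul_mem_right _ (hgK x (hT' x hx))
    · rw [mul_zero]; exact K.zero_mem
    · intro x z _ _ hx hz
      rw [mul_add]; exact K.add_mem hx hz
    · intro c x _ hx
      rw [smul_eq_mul, mul_left_comm]; exact K.mul_mem_left _ hx

/-- **Associated primes of a locally principal ideal in a factorial localization.**
Let `A = R_P` be a UFD, `I ⊆ R` an ideal and `𝔭 = (IA : a)` a prime of `A` with contraction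
`q`.  If `I R_q` is generated by a nonzerodivisor, then `𝔭` has height one. -/
theorem height_eq_one_of_colon {R : Type*} [CommRing R] [IsNoetherianRing R]
    (P : Ideal R) [P.IsPrime] (A : Type*) [CommRing A] [Algebra R A] [IsLocalization.AtPrime A P]
    [IsDomain A] [UniqueFactorizationMonoid A] (I : Ideal R) (𝔭 : Ideal A) [h𝔭 : 𝔭.IsPrime]
    (a : A) (ha : ∀ y : A, y ∈ 𝔭 ↔ y * a ∈ I.map (algebraMap R A))
    (B : Type*) [CommRing B] [Algebra R B] (Q : Ideal R) [Q.IsPrime]
    (hQ : Q = 𝔭.comap (algebraMap R A)) [IsLocalization.AtPrime B Q]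
    (β : B) (hβ : β ∈ nonZeroDivisors B) (hIB : I.map (algebraMap R B) = Ideal.span {β}) :
    𝔭.height = 1 := by
  classical
  subst hQ
  haveI : IsNoetherianRing A := IsLocalization.isNoetherianRing P.primeCompl A inferInstance
  set q := 𝔭.comap (algebraMap R A) with hq
  haveI : IsLocalRing B := IsLocalization.AtPrime.isLocalRing B q
  have hqP : q ≤ P := by
    intro y hy
    by_contra hyP
    have hu : IsUnit (algebraMap R A y) :=
      (IsLocalization.AtPrime.isUnit_to_map_iff A P y).mpr hyP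
    exact h𝔭.ne_top (𝔭.eq_top_of_isUnit_mem hy hu)
  have hunitB : ∀ s : R, s ∉ q → IsUnit (algebraMap R B s) := fun s hs =>
    (IsLocalization.AtPrime.isUnit_to_map_iff B q s).mpr hs
  -- a generator coming from `R`
  obtain ⟨⟨r, s⟩, hrs⟩ := IsLocalization.surj q.primeCompl β
  have hrs' : β * algebraMap R B (s : R) = algebraMap R B r := hrs
  have hsu : IsUnit (algebraMap R B (s : R)) := hunitB s s.2
  have hrnzd : algebraMap R B r ∈ nonZeroDivisors B := by
    rw [← hrs']
    exact mul_mem hβ hsu.mem_nonZeroDivisors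
  have hIB' : I.map (algebraMap R B) = Ideal.span {algebraMap R B r} := by
    rw [hIB, ← hrs']
    obtain ⟨u, hu⟩ := hsu
    rw [← hu]
    exact (Ideal.span_singleton_mul_right_unit u.isUnit β).symm
  have hr0 : algebraMap R A r ≠ 0 := by
    intro h0
    obtain ⟨m, hm⟩ := (IsLocalization.map_eq_zero_iff P.primeCompl A r).mp h0
    have hmq : (m : R) ∉ q := fun h => m.2 (hqP h)
    have h1 : algebraMap R B (m : R) * algebraMap R B r = 0 := by
      rw [← map_mul, hm, map_zero]
    have h2 : algebraMap R B (m : R) = 0 := (mem_nonZeroDivisors_iff_right.mp hrnzd) _ h1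
    have h3 := hunitB m hmq
    rw [h2] at h3
    exact not_isUnit_zero h3
  -- `t' r ∈ I` for some `t' ∉ q`
  obtain ⟨t', ht'q, ht'I⟩ : ∃ t' : R, t' ∉ q ∧ t' * r ∈ I := by
    have h1 : algebraMap R B r ∈ I.map (algebraMap R B) := by
      rw [hIB']; exact Ideal.mem_span_singleton_self _
    obtain ⟨⟨⟨i, hi⟩, s'⟩, his⟩ := (IsLocalization.mem_map_algebraMap_iff q.primeCompl B).mp h1
    have his' : algebraMap R B r * algebraMap R B (s' : R) = algebraMap R B i := his
    rw [← map_mul] at his'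
    obtain ⟨u, hu⟩ := (IsLocalization.eq_iff_exists q.primeCompl B).mp his'
    refine ⟨u * s', (u * s').2, ?_⟩
    have : (u : R) * s' * r = u * i := by rw [← hu]; ring
    change (u : R) * s' * r ∈ I
    rw [this]
    exact I.mul_mem_left _ hi
  -- a common multiplier pushing `I` into `(r)`
  obtain ⟨h, hhq, hhI⟩ : ∃ h : R, h ∉ q ∧ ∀ i ∈ I, h * i ∈ Ideal.span {r} := by
    apply exists_common_multiplier q I (Ideal.span {r})
      ((isNoetherianRing_iff_ideal_fg R).mp inferInstance I)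
    intro i hi
    have h1 : algebraMap R B i ∈ Ideal.span {algebraMap R B r} := by
      rw [← hIB']; exact Ideal.mem_map_of_mem _ hi
    obtain ⟨z, hz⟩ := Ideal.mem_span_singleton'.mp h1
    obtain ⟨⟨c, s'⟩, hcs⟩ := IsLocalization.surj q.primeCompl z
    have hcs' : z * algebraMap R B (s' : R) = algebraMap R B c := hcs
    have h2 : algebraMap R B (i * s') = algebraMap R B (c * r) := by
      rw [map_mul, map_mul, ← hz, ← hcs']; ring
    obtain ⟨u, hu⟩ := (IsLocalization.eq_iff_exists q.primeCompl B).mp h2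
    refine ⟨u * s', (u * s').2, ?_⟩
    rw [Ideal.mem_span_singleton]
    refine ⟨u * c, ?_⟩
    calc ((u * s' : q.primeCompl) : R) * i = u * (i * s') := by rw [Submonoid.coe_mul]; ring
      _ = u * (c * r) := hu
      _ = r * (u * c) := by ring
  set J := I.map (algebraMap R A) with hJ
  have hhJ : ∀ j ∈ J, algebraMap R A h * j ∈ Ideal.span {algebraMap R A r} := by
    intro j hj
    rw [hJ, Ideal.map] at hj
    refine Submodule.span_induction ?_ ?_ ?_ ?_ hj
    · rintro _ ⟨i, hi, rfl⟩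
      have := hhI i hi
      rw [Ideal.mem_span_singleton] at this ⊢
      obtain ⟨c, hc⟩ := this
      exact ⟨algebraMap R A c, by rw [← map_mul, hc, map_mul]⟩
    · rw [mul_zero]; exact Ideal.zero_mem _
    · intro x z _ _ hx hz
      rw [mul_add]; exact Ideal.add_mem _ hx hz
    · intro c x _ hx
      rw [smul_eq_mul, mul_left_comm]; exact Ideal.mul_mem_left _ _ hx
  have hnot : ∀ s : R, s ∉ q → algebraMap R A s ∉ 𝔭 := fun s hs h => hs h
  have hH1 : ∀ t : A, t ∉ 𝔭 → t * a ∉ Ideal.span {algebraMap R A r} := by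
    intro t ht hmem
    rw [Ideal.mem_span_singleton] at hmem
    obtain ⟨c, hc⟩ := hmem
    have h1 : algebraMap R A t' * t * a ∈ J := by
      have : algebraMap R A t' * t * a = algebraMap R A (t' * r) * c := by
        rw [map_mul, mul_assoc, hc]; ring
      rw [this]
      exact J.mul_mem_right _ (Ideal.mem_map_of_mem _ ht'I)
    have h2 : algebraMap R A t' * t ∈ 𝔭 := (ha _).mpr h1
    rcases h𝔭.mem_or_mem h2 with h3 | h3
    · exact hnot t' ht'q h3
    · exact ht h3
  have hH2 : ∃ t₀ : A, t₀ ∉ 𝔭 ∧ ∀ y ∈ 𝔭, t₀ * (y * a) ∈ Ideal.span {algebraMap R A r} :=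
    ⟨algebraMap R A h, hnot h hhq, fun y hy => hhJ _ ((ha y).mp hy)⟩
  obtain ⟨π, hπ, hπ𝔭⟩ :=
    exists_prime_span_eq_of_colon J 𝔭 a (algebraMap R A r) hr0 ha hH1 hH2
  haveI : (Ideal.span {π}).IsPrime := hπ𝔭 ▸ h𝔭
  apply le_antisymm
  · rw [hπ𝔭]
    exact Ideal.height_le_one_of_isPrincipal_of_mem_minimalPrimes (Ideal.span {π}) _
      ⟨⟨inferInstance, le_rfl⟩, fun _ hK _ => hK.2⟩
  · have hbot : (⊥ : Ideal A) < 𝔭 := by
      rw [bot_lt_iff_ne_bot, hπ𝔭]
      intro h0
      exact hπ.ne_zero (Ideal.span_singleton_eq_bot.mp h0)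
    have h1 := Ideal.height_strict_mono_of_isPrime_of_isPrime hbot
    exact Order.one_le_iff_pos.mpr (lt_of_le_of_lt bot_le h1)

/-- an element of `R` whose image lies in the extension of `I` to the localization at `P` is
pushed into `I` by an element outside `P`. -/
theorem exists_mul_mem_of_algebraMap_mem_map {R : Type*} [CommRing R] (P : Ideal R) [P.IsPrime]
    (A : Type*) [CommRing A] [Algebra R A] [IsLocalization.AtPrime A P] (I : Ideal R) (r : R)
    (h : algebraMap R A r ∈ I.map (algebraMap R A)) : ∃ t : R, t ∉ P ∧ t * r ∈ I := by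
  obtain ⟨⟨⟨i, hi⟩, s'⟩, his⟩ := (IsLocalization.mem_map_algebraMap_iff P.primeCompl A).mp h
  have his' : algebraMap R A r * algebraMap R A (s' : R) = algebraMap R A i := his
  rw [← map_mul] at his'
  obtain ⟨u, hu⟩ := (IsLocalization.eq_iff_exists P.primeCompl A).mp his'
  refine ⟨u * s', (u * s').2, ?_⟩
  have : (u : R) * s' * r = u * i := by rw [← hu]; ring
  change (u : R) * s' * r ∈ I
  rw [this]
  exact I.mul_mem_left _ hi

end Algebra

section Geometry

variable {X : Scheme.{u}}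

open Groth.Agent.H9.MDP in
/-- a chart of the inverse image ideal on an open subscheme gives a chart on the ambient
scheme. -/
theorem exists_chart_of_comap {Y : Scheme.{u}} (j : Y ⟶ X) [IsOpenImmersion j]
    (I : X.IdealSheafData) (V : Y.affineOpens) (f : Γ(Y, V.1))
    (hf : f ∈ nonZeroDivisors Γ(Y, V.1)) (hI : (I.comap j).ideal V = Ideal.span {f}) :
    ∃ g : Γ(X, j ''ᵁ V.1), g ∈ nonZeroDivisors Γ(X, j ''ᵁ V.1) ∧
      I.ideal ⟨j ''ᵁ V.1, V.2.image_of_isOpenImmersion j⟩ = Ideal.span {g} := by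
  refine ⟨(j.appIso V.1).inv f, ?_, ?_⟩
  · exact (nzd_iff_of_isIso' (j.appIso V.1).inv f).mpr hf
  · rw [Scheme.IdealSheafData.ideal_comap_of_isOpenImmersion] at hI
    have hinvhom : ∀ s, (j.appIso V.1).inv.hom ((j.appIso V.1).hom.hom s) = s := by
      intro s
      change ((j.appIso V.1).hom ≫ (j.appIso V.1).inv) s = s
      simp
    have hhominv : ∀ s, (j.appIso V.1).hom.hom ((j.appIso V.1).inv.hom s) = s := by
      intro s
      change ((j.appIso V.1).inv ≫ (j.appIso V.1).hom) s = s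
      simp
    apply le_antisymm
    · intro s hs
      have h1 : (j.appIso V.1).hom.hom s ∈ Ideal.span {f} := by
        rw [← hI, Ideal.mem_comap, hinvhom]; exact hs
      obtain ⟨c, hc⟩ := Ideal.mem_span_singleton'.mp h1
      refine Ideal.mem_span_singleton'.mpr ⟨(j.appIso V.1).inv.hom c, ?_⟩
      have := congrArg (j.appIso V.1).inv.hom hc
      rw [map_mul, hinvhom] at this
      exact this
    · rw [Ideal.span_le, Set.singleton_subset_iff]
      have h1 : f ∈ (I.ideal ⟨j ''ᵁ V.1, V.2.image_of_isOpenImmersion j⟩).comap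
          (j.appIso V.1).inv.hom := by
        rw [hI]; exact Ideal.mem_span_singleton_self f
      exact h1

/-- charts of an ideal sheaf whose restriction to an open `U` is effective Cartier, at the points
of `U`, inside a given open. -/
theorem exists_chart_le_of_comap (U : X.Opens) (I : X.IdealSheafData)
    (h : BlowUp.IsEffCartierIdeal (I.comap U.ι)) (y : X) (hy : y ∈ U) (O : X.Opens)
    (hyO : y ∈ O) :
    ∃ V : X.affineOpens, y ∈ V.1 ∧ V.1 ≤ O ∧
      ∃ g : Γ(X, V.1), g ∈ nonZeroDivisors Γ(X, V.1) ∧ I.ideal V = Ideal.span {g} := by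
  obtain ⟨V', hyV', hV'O, f, hf, hIf⟩ := Groth.Agent.H1.CartierKit.exists_cartier_le (I.comap U.ι) h
    (⟨y, hy⟩ : (U : Scheme.{u})) (U.ι ⁻¹ᵁ O) hyO
  obtain ⟨g, hg, hIg⟩ := exists_chart_of_comap U.ι I V' f hf hIf
  refine ⟨⟨U.ι ''ᵁ V'.1, V'.2.image_of_isOpenImmersion U.ι⟩, ⟨⟨y, hy⟩, hyV', rfl⟩, ?_, g, hg, hIg⟩
  rintro _ ⟨z, hz, rfl⟩
  exact hV'O hz

/-- **Stacks 0AGA.**  An effective Cartier divisor on an open `U` of a locally Noetherian scheme
whose local rings at the points outside `U` are factorial extends to an effective Cartier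
divisor (its scheme theoretic closure). -/
theorem exists_extension_effCartier [IsLocallyNoetherian X] (U : X.Opens)
    (D : (U : Scheme.{u}).IdealSheafData) (hD : BlowUp.IsEffCartierIdeal D)
    (hufd : ∀ x : X, x ∉ U →
      IsDomain (X.presheaf.stalk x) ∧ UniqueFactorizationMonoid (X.presheaf.stalk x)) :
    ∃ D' : X.IdealSheafData, BlowUp.IsEffCartierIdeal D' ∧ D'.comap U.ι = D := by
  classical
  have hcomap : (D.map U.ι).comap U.ι = D :=
    Groth.Agent.H9.BLA.comap_map_of_isOpenImmersion U.ι D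
  refine ⟨D.map U.ι, ?_, hcomap⟩
  have hD'U : BlowUp.IsEffCartierIdeal ((D.map U.ι).comap U.ι) := by rw [hcomap]; exact hD
  obtain ⟨D', hD'⟩ : ∃ D' : X.IdealSheafData, D' = D.map U.ι := ⟨_, rfl⟩
  rw [← hD'] at hD'U ⊢
  intro x
  by_cases hx : x ∈ U
  · obtain ⟨V, hxV, -, g, hg, hI⟩ := exists_chart_le_of_comap U D' hD'U x hx ⊤ trivial
    exact ⟨V, hxV, g, hg, hI⟩
  obtain ⟨W, hW, hxW, -⟩ := exists_isAffineOpen_mem_and_subset (x := x) (U := ⊤) trivial
  obtain ⟨hdom, hufm⟩ := hufd x hx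
  haveI := hdom
  haveI := hufm
  haveI : IsNoetherianRing Γ(X, W) := IsLocallyNoetherian.component_noetherian ⟨W, hW⟩
  letI : Algebra Γ(X, W) (X.presheaf.stalk x) :=
    TopCat.Presheaf.algebra_section_stalk X.presheaf ⟨x, hxW⟩
  haveI hloc : IsLocalization.AtPrime (X.presheaf.stalk x)
      (hW.primeIdealOf ⟨x, hxW⟩).asIdeal := hW.isLocalization_stalk ⟨x, hxW⟩
  haveI : IsNoetherianRing (X.presheaf.stalk x) :=
    IsLocalization.isNoetherianRing (hW.primeIdealOf ⟨x, hxW⟩).asIdeal.primeCompl _ inferInstance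
  set P := (hW.primeIdealOf ⟨x, hxW⟩).asIdeal with hP
  set I := D'.ideal ⟨W, hW⟩ with hI
  set J := I.map (algebraMap Γ(X, W) (X.presheaf.stalk x)) with hJ
  -- the ideal `I` as a kernel
  have hIker : ∀ s : Γ(X, W), s ∈ I ↔ ((D.subschemeι ≫ U.ι).app W).hom s = 0 := by
    intro s
    rw [hI, hD']
    change s ∈ ((D.subschemeι ≫ U.ι).ker).ideal ⟨W, hW⟩ ↔ _
    rw [Scheme.Hom.ker_apply, RingHom.mem_ker]
  have hass : ∀ 𝔭 ∈ associatedPrimes (X.presheaf.stalk x) (X.presheaf.stalk x ⧸ J),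
      𝔭.height = 1 := by
    intro 𝔭 h𝔭
    rw [AssociatedPrimes.mem_iff, isAssociatedPrime_iff] at h𝔭
    obtain ⟨h𝔭p, a₀', ha₀'⟩ := h𝔭
    haveI := h𝔭p
    obtain ⟨a₀, rfl⟩ := Ideal.Quotient.mk_surjective a₀'
    have ha₀ : ∀ y : X.presheaf.stalk x, y ∈ 𝔭 ↔ y * a₀ ∈ J := by
      intro y
      rw [ha₀', Submodule.mem_colon_singleton, Submodule.mem_bot]
      rw [← Ideal.Quotient.eq_zero_iff_mem]
      rfl
    -- replace `a₀` by an element coming from `Γ(X, W)`
    obtain ⟨⟨a', s₀⟩, has⟩ := IsLocalization.surj P.primeCompl a₀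
    have has' : a₀ * algebraMap Γ(X, W) (X.presheaf.stalk x) (s₀ : Γ(X, W)) =
        algebraMap Γ(X, W) (X.presheaf.stalk x) a' := has
    have hs₀u : IsUnit (algebraMap Γ(X, W) (X.presheaf.stalk x) (s₀ : Γ(X, W))) :=
      IsLocalization.map_units _ s₀
    have ha : ∀ y : X.presheaf.stalk x,
        y ∈ 𝔭 ↔ y * algebraMap Γ(X, W) (X.presheaf.stalk x) a' ∈ J := by
      intro y
      rw [ha₀ y, ← has', ← mul_assoc]
      constructor
      · intro h; exact J.mul_mem_right _ h
      · intro h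
        obtain ⟨w, hw⟩ := hs₀u
        have := J.mul_mem_right (↑w⁻¹ : X.presheaf.stalk x) h
        rwa [← hw, mul_assoc, Units.mul_inv, mul_one] at this
    set q := 𝔭.comap (algebraMap Γ(X, W) (X.presheaf.stalk x)) with hq
    have hqP : q ≤ P := by
      intro y hy
      by_contra hyP
      have hu : IsUnit (algebraMap Γ(X, W) (X.presheaf.stalk x) y) :=
        (IsLocalization.AtPrime.isUnit_to_map_iff (X.presheaf.stalk x) P y).mpr hyP
      exact h𝔭p.ne_top (𝔭.eq_top_of_isUnit_mem hy hu)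
    obtain ⟨ξ, hξW, hξ⟩ := exists_point_of_prime hW q
    -- the point `ξ` lies in `U`
    have hξU : ξ ∈ U := by
      by_contra hξU
      -- a multiplier `t ∉ P` with `t * y * a' ∈ I` for `y ∈ q`
      obtain ⟨t, htP, htq⟩ : ∃ t : Γ(X, W), t ∉ P ∧ ∀ y ∈ q, t * y ∈ I.colon {a'} := by
        apply exists_common_multiplier P q (I.colon {a'})
          ((isNoetherianRing_iff_ideal_fg _).mp inferInstance q)
        intro y hy
        have h1 : algebraMap Γ(X, W) (X.presheaf.stalk x) (y * a') ∈ J := by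
          rw [map_mul]; exact (ha _).mp hy
        obtain ⟨t, htP, ht⟩ := exists_mul_mem_of_algebraMap_mem_map P (X.presheaf.stalk x) I _ h1
        refine ⟨t, htP, ?_⟩
        rw [Submodule.mem_colon_singleton, smul_eq_mul, mul_assoc]
        exact ht
      have hta : t * a' ∈ I := by
        rw [hIker]
        refine (D.subscheme).IsSheaf.section_ext (U := Opposite.op ((D.subschemeι ≫ U.ι) ⁻¹ᵁ W)) ?_
        intro z hz
        have hfzU : (D.subschemeι ≫ U.ι) z ∈ U := (D.subschemeι z).2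
        have hfzW : (D.subschemeι ≫ U.ι) z ∈ W := hz
        have hnle : ¬ q ≤ pr hW ((D.subschemeι ≫ U.ι) z) hfzW := by
          intro hle
          apply hξU
          have hsp : ξ ⤳ (D.subschemeι ≫ U.ι) z :=
            specializes_of_pr_le hW hfzW hξW (hξ ▸ hle)
          exact hsp.mem_open U.2 hfzU
        obtain ⟨y, hyq, hy⟩ := Set.not_subset.mp hnle
        have hzy : z ∈ (D.subschemeι ≫ U.ι) ⁻¹ᵁ X.basicOpen y :=
          (Groth.Agent.H4.PicDim1.mem_basicOpen_iff hW y _ hfzW).mpr hy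
        rw [Scheme.Hom.preimage_basicOpen] at hzy
        refine ⟨(D.subscheme).basicOpen (((D.subschemeι ≫ U.ι).app W).hom y),
          (D.subscheme).basicOpen_le _, hzy, ?_⟩
        rw [map_zero]
        have h0 : ((D.subschemeι ≫ U.ι).app W).hom (t * y * a') = 0 := by
          rw [← hIker]
          have := htq y hyq
          rwa [Submodule.mem_colon_singleton, smul_eq_mul] at this
        have hu : IsUnit (((D.subscheme).presheaf.map
            (homOfLE ((D.subscheme).basicOpen_le (((D.subschemeι ≫ U.ι).app W).hom y))).op).hom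
              (((D.subschemeι ≫ U.ι).app W).hom y)) :=
          (D.subscheme).toRingedSpace.isUnit_res_basicOpen _
        have h1 := congrArg ((D.subscheme).presheaf.map
            (homOfLE ((D.subscheme).basicOpen_le (((D.subschemeι ≫ U.ι).app W).hom y))).op).hom h0
        rw [map_zero, show t * y * a' = y * (t * a') by ring, map_mul, map_mul] at h1
        exact (hu.mul_right_eq_zero).mp h1
      have h2 : algebraMap Γ(X, W) (X.presheaf.stalk x) t ∈ 𝔭 := by
        rw [ha, ← map_mul]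
        exact Ideal.mem_map_of_mem _ hta
      exact htP (hqP h2)
    -- a chart at `ξ`
    obtain ⟨V, hξV, hVW, g, hg, hIg⟩ := exists_chart_le_of_comap U D' hD'U ξ hξU W hξW
    letI : Algebra Γ(X, W) (X.presheaf.stalk ξ) :=
      TopCat.Presheaf.algebra_section_stalk X.presheaf ⟨ξ, hξW⟩
    haveI hlocξ : IsLocalization.AtPrime (X.presheaf.stalk ξ)
        (hW.primeIdealOf ⟨ξ, hξW⟩).asIdeal := hW.isLocalization_stalk ⟨ξ, hξW⟩
    letI algV : Algebra Γ(X, V.1) (X.presheaf.stalk ξ) :=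
      TopCat.Presheaf.algebra_section_stalk X.presheaf ⟨ξ, hξV⟩
    haveI hlocV : IsLocalization.AtPrime (X.presheaf.stalk ξ)
        (V.2.primeIdealOf ⟨ξ, hξV⟩).asIdeal := V.2.isLocalization_stalk ⟨ξ, hξV⟩
    have hβ : algebraMap Γ(X, V.1) (X.presheaf.stalk ξ) g ∈ nonZeroDivisors (X.presheaf.stalk ξ) :=
      IsLocalization.map_nonZeroDivisors_le (V.2.primeIdealOf ⟨ξ, hξV⟩).asIdeal.primeCompl
        (X.presheaf.stalk ξ) (Submonoid.mem_map_of_mem _ hg)
    have hcomp : algebraMap Γ(X, W) (X.presheaf.stalk ξ) =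
        (algebraMap Γ(X, V.1) (X.presheaf.stalk ξ)).comp
          (X.presheaf.map (homOfLE hVW).op).hom := by
      ext s
      change X.presheaf.germ W ξ hξW s = X.presheaf.germ V.1 ξ hξV (X.presheaf.map (homOfLE hVW).op s)
      rw [TopCat.Presheaf.germ_res_apply]
    have hIB : I.map (algebraMap Γ(X, W) (X.presheaf.stalk ξ)) =
        Ideal.span {algebraMap Γ(X, V.1) (X.presheaf.stalk ξ) g} := by
      have h1 : (D'.ideal ⟨W, hW⟩).map (X.presheaf.map (homOfLE hVW).op).hom = Ideal.span {g} := by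
        rw [← hIg]; exact D'.map_ideal (U := V) (V := ⟨W, hW⟩) hVW
      rw [hcomp, ← Ideal.map_map, hI]
      exact (congrArg (Ideal.map (algebraMap Γ(X, V.1) (X.presheaf.stalk ξ))) h1).trans
        (by rw [Ideal.map_span, Set.image_singleton])
    exact height_eq_one_of_colon P (X.presheaf.stalk x) I 𝔭
      (algebraMap Γ(X, W) (X.presheaf.stalk x) a') ha (X.presheaf.stalk ξ)
      (hW.primeIdealOf ⟨ξ, hξW⟩).asIdeal hξ _ hβ hIB
  obtain ⟨c, hc0, hJc⟩ := Groth.Agent.H1.CartierKit.exists_eq_span_singleton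
    (X.presheaf.stalk x) J hass
  exact exists_chart_of_stalk_principal D' x W hW hxW ⟨c, hc0, hJc⟩

end Geometry

end Groth.Agent.H5.EffDec
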